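import Mathlib.Init

/-!
Columns of eight 45 x 45 matrices over GF(7) satisfying the defining relations of the O'Nan group
up to cube roots of unity: in letter `l`, column `j` is the list of the pairs (row, nonzero entry).
Letters `0, 1` are `g, g⁻¹`, letters `2, ..., 7` are `a, ..., f`.
-/

namespace Cfsg.Agent.ON45

def g0 : List (List (Nat × Nat)) := [
  [(0, 2), (2, 2), (3, 6), (5, 4), (6, 6), (7, 5), (8, 6), (10, 2), (12, 5), (13, 1), (15, 2), (16, 3), (17, 1), (19, 3), (20, 6), (21, 1), (23, 4), (24, 2), (25, 1), (27, 2), (28, 5), (31, 4), (32, 2), (34, 5), (35, 5), (37, 1), (38, 5), (40, 2), (42, 2), (44, 5)],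
  [(2, 6), (5, 6), (6, 6), (7, 4), (8, 3), (9, 1), (10, 5), (11, 4), (12, 2), (13, 1), (16, 3), (17, 2), (18, 2), (20, 4), (21, 6), (23, 6), (24, 1), (25, 2), (26, 1), (27, 6), (30, 1), (32, 2), (33, 5), (34, 5), (35, 4), (36, 3), (37, 3), (38, 3), (39, 4), (40, 1), (41, 5), (42, 1), (43, 3)],
  [(0, 5), (1, 1), (2, 5), (4, 1), (5, 5), (6, 5), (7, 6), (9, 4), (10, 6), (11, 5), (12, 4), (13, 5), (14, 6), (16, 2), (17, 4), (18, 1), (19, 5), (20, 5), (22, 5), (23, 4), (24, 2), (25, 6), (26, 6), (27, 6), (28, 1), (29, 3), (30, 1), (31, 1), (33, 4), (34, 2), (35, 5), (36, 3), (37, 6), (38, 1), (39, 3), (40, 1), (41, 2), (42, 6), (44, 2)],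
  [(0, 5), (1, 2), (2, 4), (3, 1), (4, 6), (5, 3), (6, 5), (7, 2), (8, 1), (9, 6), (10, 5), (11, 4), (13, 3), (14, 3), (15, 1), (16, 6), (17, 3), (18, 5), (19, 1), (21, 6), (22, 2), (23, 1), (24, 5), (25, 1), (26, 5), (27, 6), (29, 4), (30, 1), (31, 1), (32, 3), (33, 3), (34, 2), (36, 3), (37, 5), (38, 3), (40, 2), (41, 4), (42, 3), (43, 3), (44, 5)],
  [(1, 6), (2, 4), (3, 2), (4, 4), (5, 3), (6, 4), (8, 3), (9, 1), (10, 2), (11, 2), (12, 5), (13, 3), (14, 3), (15, 4), (16, 1), (17, 4), (18, 3), (19, 6), (21, 2), (22, 3), (23, 3), (24, 3), (26, 1), (29, 4), (30, 6), (31, 6), (32, 3), (33, 2), (34, 3), (36, 3), (37, 4), (39, 3), (40, 5), (41, 6), (43, 6), (44, 5)],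
  [(0, 5), (1, 3), (2, 5), (3, 5), (4, 2), (5, 2), (6, 1), (7, 3), (8, 3), (9, 4), (10, 3), (12, 2), (13, 6), (14, 6), (15, 3), (16, 6), (17, 3), (18, 6), (20, 6), (21, 1), (22, 1), (23, 5), (24, 3), (25, 2), (26, 5), (27, 5), (28, 2), (29, 1), (30, 3), (31, 4), (32, 6), (33, 4), (34, 5), (35, 6), (37, 5), (38, 1), (39, 5), (40, 6), (41, 1), (43, 6), (44, 1)],
  [(0, 1), (3, 4), (4, 2), (5, 6), (6, 3), (7, 6), (8, 1), (9, 1), (12, 5), (13, 1), (15, 6), (16, 3), (18, 3), (19, 2), (20, 4), (22, 5), (23, 4), (24, 6), (25, 6), (26, 3), (27, 5), (28, 4), (29, 4), (30, 1), (31, 6), (32, 2), (33, 4), (34, 6), (38, 4), (39, 2), (41, 5), (42, 5), (43, 1), (44, 1)],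
  [(0, 3), (1, 5), (2, 4), (3, 4), (6, 6), (7, 3), (8, 4), (10, 1), (11, 3), (13, 3), (15, 5), (16, 6), (17, 1), (18, 3), (21, 3), (23, 2), (24, 5), (26, 2), (28, 3), (29, 6), (32, 5), (34, 2), (36, 4), (37, 1), (38, 5), (40, 2), (42, 2), (44, 5)],
  [(0, 6), (2, 5), (3, 6), (4, 5), (5, 4), (6, 4), (7, 1), (8, 1), (9, 5), (10, 1), (12, 2), (13, 4), (14, 1), (15, 6), (16, 3), (17, 6), (18, 3), (20, 4), (21, 3), (22, 1), (23, 6), (24, 6), (25, 4), (26, 6), (27, 1), (28, 6), (29, 6), (30, 3), (31, 6), (33, 3), (34, 4), (35, 3), (36, 1), (37, 5), (38, 5), (39, 1), (40, 4), (41, 6), (43, 1), (44, 3)],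
  [(1, 1), (2, 1), (3, 2), (4, 5), (5, 1), (6, 2), (9, 1), (11, 5), (12, 4), (14, 1), (15, 1), (16, 2), (17, 2), (18, 5), (20, 2), (21, 2), (22, 6), (24, 6), (25, 2), (26, 6), (27, 2), (29, 3), (30, 2), (32, 3), (33, 6), (34, 3), (35, 2), (36, 5), (38, 6), (39, 6), (40, 5), (42, 6), (43, 4), (44, 5)],
  [(1, 3), (2, 2), (3, 5), (4, 5), (6, 5), (7, 4), (9, 2), (10, 5), (11, 6), (12, 6), (13, 1), (14, 4), (15, 2), (16, 3), (17, 5), (18, 4), (20, 3), (22, 6), (23, 6), (25, 6), (26, 1), (27, 1), (28, 4), (29, 1), (30, 2), (31, 2), (32, 5), (34, 4), (35, 3), (36, 4), (37, 3), (38, 1), (39, 3), (40, 5), (41, 2), (43, 5), (44, 5)],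
  [(1, 1), (2, 1), (3, 4), (5, 5), (6, 6), (7, 2), (8, 3), (9, 3), (10, 5), (12, 2), (13, 2), (14, 5), (15, 4), (16, 1), (17, 4), (18, 2), (20, 6), (23, 5), (25, 5), (27, 5), (29, 5), (32, 1), (33, 1), (34, 6), (35, 4), (36, 6), (37, 4), (38, 3), (39, 5), (41, 1), (42, 2), (43, 2), (44, 3)],
  [(0, 4), (2, 6), (3, 2), (4, 4), (5, 1), (6, 6), (7, 1), (8, 5), (9, 1), (10, 2), (11, 2), (12, 2), (13, 6), (14, 3), (15, 1), (16, 6), (17, 2), (19, 1), (20, 4), (21, 3), (22, 2), (23, 2), (24, 1), (25, 5), (26, 4), (27, 5), (28, 3), (29, 5), (30, 3), (32, 3), (33, 1), (34, 5), (35, 3), (36, 5), (37, 2), (39, 3), (40, 2), (41, 2), (42, 2), (43, 5), (44, 5)],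
  [(0, 1), (2, 5), (3, 3), (4, 5), (5, 4), (6, 6), (7, 6), (8, 4), (9, 5), (10, 4), (12, 2), (13, 1), (14, 5), (15, 1), (16, 3), (17, 4), (18, 1), (19, 6), (20, 4), (21, 6), (22, 1), (23, 5), (24, 1), (25, 4), (26, 5), (27, 3), (28, 1), (29, 3), (30, 2), (32, 4), (33, 3), (35, 1), (36, 3), (37, 3), (39, 1), (40, 3), (41, 6), (42, 5), (43, 1), (44, 4)],
  [(0, 5), (2, 2), (3, 3), (4, 6), (6, 5), (7, 5), (8, 2), (9, 3), (10, 4), (11, 2), (12, 5), (13, 2), (14, 1), (15, 4), (16, 1), (17, 2), (18, 4), (20, 2), (21, 4), (22, 3), (23, 2), (24, 6), (25, 1), (26, 3), (27, 6), (28, 1), (29, 6), (30, 5), (31, 1), (33, 6), (34, 4), (36, 5), (37, 4), (40, 2), (41, 3), (42, 2), (43, 4), (44, 6)],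
  [(0, 4), (1, 1), (2, 6), (4, 3), (5, 2), (6, 2), (7, 4), (8, 1), (9, 5), (10, 6), (11, 5), (12, 1), (13, 4), (15, 2), (17, 2), (18, 5), (19, 1), (20, 4), (21, 4), (22, 4), (24, 1), (25, 1), (26, 3), (27, 4), (28, 3), (29, 3), (30, 6), (31, 5), (32, 3), (33, 3), (34, 5), (35, 6), (36, 6), (37, 3), (38, 5), (39, 2), (40, 5), (41, 3), (42, 5), (43, 5), (44, 3)],
  [(0, 1), (1, 4), (2, 4), (4, 4), (5, 4), (6, 2), (7, 4), (8, 6), (9, 2), (10, 6), (11, 6), (12, 3), (14, 2), (15, 6), (16, 5), (17, 6), (18, 5), (19, 4), (20, 3), (22, 6), (23, 1), (25, 6), (26, 3), (27, 6), (28, 3), (29, 5), (30, 6), (31, 6), (32, 1), (33, 2), (35, 3), (36, 4), (37, 3), (38, 3), (39, 5), (40, 1), (41, 1), (42, 4), (44, 4)],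
  [(0, 6), (2, 5), (4, 2), (5, 3), (7, 1), (8, 1), (9, 1), (10, 5), (12, 3), (13, 1), (14, 4), (15, 1), (17, 3), (19, 6), (20, 6), (21, 4), (22, 5), (24, 1), (25, 4), (26, 1), (28, 3), (29, 5), (31, 2), (32, 6), (33, 4), (34, 2), (35, 5), (36, 3), (37, 2), (38, 5), (39, 2), (40, 1), (41, 5), (42, 4), (43, 1)],
  [(0, 5), (1, 5), (2, 5), (3, 2), (4, 4), (7, 1), (8, 6), (9, 1), (10, 5), (11, 6), (13, 1), (15, 1), (16, 5), (17, 2), (20, 5), (21, 6), (22, 3), (23, 6), (24, 4), (25, 5), (26, 4), (27, 6), (28, 3), (29, 5), (30, 2), (31, 4), (32, 4), (33, 5), (34, 1), (35, 4), (36, 1), (37, 3), (38, 5), (39, 1), (40, 1), (41, 1), (42, 3), (43, 5), (44, 4)],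
  [(0, 1), (1, 6), (2, 3), (3, 3), (4, 4), (5, 2), (6, 1), (7, 4), (8, 4), (9, 6), (10, 4), (11, 5), (12, 2), (13, 2), (14, 2), (15, 5), (16, 3), (18, 2), (19, 6), (21, 3), (22, 3), (23, 5), (24, 2), (25, 6), (26, 3), (27, 2), (28, 6), (29, 1), (30, 4), (31, 6), (32, 3), (33, 4), (34, 6), (35, 1), (36, 3), (37, 1), (38, 6), (39, 5), (40, 3), (41, 3), (42, 3), (43, 3), (44, 6)],
  [(0, 3), (1, 5), (2, 6), (3, 1), (4, 5), (5, 1), (6, 4), (7, 1), (8, 2), (9, 5), (10, 2), (11, 6), (12, 5), (14, 2), (17, 6), (18, 1), (19, 5), (20, 6), (23, 1), (25, 5), (26, 6), (28, 1), (29, 3), (30, 1), (31, 4), (32, 5), (33, 5), (34, 1), (35, 4), (36, 3), (37, 4), (38, 4), (39, 1), (40, 5), (41, 2), (42, 5), (43, 2), (44, 1)],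
  [(0, 2), (1, 5), (2, 3), (3, 6), (4, 6), (6, 3), (7, 5), (8, 3), (9, 6), (10, 3), (11, 3), (12, 5), (13, 1), (14, 4), (15, 2), (16, 1), (17, 5), (18, 3), (19, 1), (20, 1), (21, 1), (22, 2), (23, 4), (24, 6), (26, 1), (29, 6), (30, 6), (31, 1), (32, 2), (33, 3), (34, 3), (35, 6), (36, 5), (37, 5), (38, 3), (40, 5), (41, 4), (42, 3), (43, 3), (44, 2)],
  [(1, 5), (2, 3), (4, 3), (6, 1), (8, 6), (9, 5), (10, 2), (11, 4), (13, 6), (14, 4), (15, 2), (16, 6), (17, 1), (18, 2), (19, 2), (20, 3), (23, 3), (24, 5), (25, 3), (26, 1), (27, 6), (29, 4), (30, 1), (31, 2), (32, 3), (33, 1), (34, 3), (35, 6), (36, 2), (37, 1), (38, 3), (39, 4), (40, 4), (41, 5), (42, 3), (43, 1), (44, 4)],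
  [(1, 5), (2, 1), (4, 1), (5, 1), (6, 1), (7, 2), (8, 3), (9, 6), (10, 5), (11, 3), (14, 3), (16, 5), (17, 1), (18, 5), (19, 6), (20, 4), (21, 1), (22, 4), (23, 5), (24, 1), (25, 2), (26, 6), (27, 2), (28, 2), (29, 5), (30, 3), (32, 5), (34, 1), (35, 3), (36, 5), (37, 6), (39, 2), (40, 1), (41, 6), (42, 3), (43, 1), (44, 1)],
  [(0, 4), (1, 6), (3, 3), (4, 4), (5, 5), (6, 5), (7, 4), (8, 3), (9, 2), (11, 2), (12, 6), (13, 6), (14, 4), (15, 1), (16, 2), (17, 5), (18, 1), (19, 2), (20, 6), (22, 3), (23, 5), (24, 2), (25, 3), (26, 1), (27, 1), (28, 3), (29, 2), (31, 6), (32, 2), (33, 4), (34, 4), (35, 3), (36, 2), (37, 6), (38, 2), (39, 5), (40, 4), (41, 4), (42, 2), (43, 2), (44, 2)],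
  [(0, 4), (1, 4), (4, 5), (5, 3), (6, 6), (7, 6), (9, 5), (10, 3), (11, 4), (12, 4), (13, 2), (14, 4), (16, 5), (17, 4), (18, 3), (19, 4), (20, 5), (21, 1), (23, 3), (25, 6), (26, 6), (27, 4), (28, 6), (29, 3), (30, 4), (31, 5), (32, 1), (33, 5), (34, 5), (36, 1), (37, 1), (38, 5), (39, 1), (40, 1), (41, 2), (42, 4), (43, 2), (44, 5)],
  [(0, 1), (1, 5), (2, 6), (3, 1), (4, 2), (5, 6), (6, 4), (7, 2), (8, 6), (9, 3), (10, 5), (11, 6), (12, 5), (13, 2), (15, 2), (16, 4), (17, 3), (18, 1), (19, 5), (20, 3), (21, 1), (23, 2), (24, 2), (25, 4), (26, 4), (27, 3), (28, 6), (29, 4), (30, 5), (31, 6), (32, 5), (33, 2), (34, 5), (35, 6), (37, 1), (38, 6), (39, 4), (40, 5), (41, 1), (42, 2), (44, 6)],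
  [(0, 4), (2, 1), (3, 4), (4, 2), (5, 1), (6, 1), (7, 2), (8, 6), (9, 3), (11, 6), (12, 1), (13, 2), (15, 1), (16, 5), (17, 1), (19, 3), (20, 3), (21, 4), (22, 1), (23, 1), (24, 5), (25, 2), (26, 2), (27, 3), (28, 5), (30, 4), (31, 1), (32, 1), (33, 2), (34, 1), (35, 4), (36, 3), (37, 1), (39, 2), (40, 4), (41, 2), (42, 1), (43, 2)],
  [(0, 5), (2, 4), (3, 4), (5, 3), (6, 3), (7, 3), (8, 4), (10, 3), (12, 2), (13, 3), (14, 3), (15, 3), (16, 6), (17, 4), (18, 6), (19, 3), (20, 2), (21, 3), (23, 6), (24, 3), (25, 5), (26, 3), (27, 4), (28, 3), (29, 2), (30, 1), (31, 4), (32, 3), (34, 4), (35, 3), (36, 1), (37, 3), (38, 2), (40, 2), (42, 5), (44, 5)],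
  [(0, 5), (1, 1), (2, 4), (3, 2), (4, 4), (5, 6), (6, 6), (7, 3), (8, 4), (9, 6), (10, 5), (11, 1), (12, 6), (13, 5), (14, 5), (15, 3), (16, 3), (17, 1), (19, 5), (20, 1), (21, 2), (23, 1), (24, 3), (25, 6), (26, 2), (27, 5), (28, 2), (29, 4), (31, 3), (32, 3), (33, 4), (34, 3), (35, 6), (36, 2), (37, 3), (38, 4), (39, 1), (40, 5), (41, 2), (42, 5), (44, 3)],
  [(0, 1), (1, 3), (2, 2), (3, 2), (4, 3), (5, 5), (6, 1), (7, 1), (8, 1), (9, 5), (10, 3), (13, 1), (14, 3), (15, 4), (16, 2), (17, 6), (18, 6), (19, 4), (20, 4), (21, 5), (22, 5), (23, 3), (24, 5), (25, 1), (26, 6), (28, 3), (29, 6), (30, 1), (32, 2), (33, 3), (35, 3), (36, 2), (38, 1), (40, 3), (41, 5), (43, 2), (44, 1)],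
  [(0, 6), (1, 1), (2, 5), (3, 3), (4, 4), (5, 4), (7, 3), (8, 2), (9, 6), (10, 1), (11, 2), (12, 1), (13, 4), (14, 2), (15, 5), (16, 6), (17, 1), (18, 3), (19, 6), (20, 6), (21, 3), (22, 3), (23, 6), (24, 2), (26, 2), (27, 1), (28, 1), (29, 5), (30, 4), (31, 6), (32, 6), (33, 4), (34, 3), (35, 2), (36, 2), (37, 3), (38, 3), (39, 5), (40, 6), (41, 3), (42, 6), (43, 3), (44, 3)],
  [(0, 6), (1, 2), (2, 2), (3, 5), (4, 4), (5, 4), (7, 4), (8, 4), (10, 6), (11, 4), (12, 3), (13, 1), (14, 5), (15, 4), (16, 3), (17, 1), (18, 4), (19, 2), (20, 6), (21, 2), (22, 3), (23, 1), (24, 1), (25, 3), (26, 1), (27, 5), (28, 4), (30, 3), (31, 5), (32, 2), (33, 1), (34, 6), (35, 4), (36, 3), (39, 3), (40, 6), (41, 3), (42, 1), (43, 6), (44, 2)],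
  [(1, 5), (2, 5), (3, 2), (8, 6), (9, 4), (11, 4), (13, 6), (14, 5), (15, 4), (16, 3), (18, 1), (19, 6), (20, 6), (21, 2), (22, 4), (24, 3), (25, 6), (27, 2), (30, 3), (31, 6), (32, 4), (33, 3), (34, 4), (35, 2), (36, 1), (37, 2), (38, 4), (39, 3), (40, 2), (41, 3), (42, 4), (43, 2), (44, 2)],
  [(0, 1), (1, 5), (2, 5), (3, 2), (4, 4), (5, 6), (6, 1), (7, 3), (8, 1), (10, 3), (11, 3), (12, 2), (13, 4), (14, 5), (15, 6), (16, 4), (18, 3), (19, 5), (20, 3), (21, 5), (22, 3), (23, 2), (24, 3), (25, 6), (27, 4), (28, 3), (29, 4), (30, 3), (31, 2), (32, 6), (33, 1), (34, 2), (35, 5), (36, 4), (37, 4), (38, 1), (39, 3), (40, 2), (41, 3), (43, 6), (44, 6)],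
  [(0, 3), (1, 4), (2, 6), (3, 4), (4, 2), (5, 2), (6, 1), (7, 5), (8, 2), (9, 3), (10, 3), (12, 4), (13, 6), (14, 2), (15, 2), (16, 2), (17, 1), (18, 3), (19, 1), (20, 2), (21, 4), (22, 1), (24, 6), (25, 3), (27, 4), (28, 2), (29, 1), (31, 3), (32, 1), (33, 2), (34, 1), (35, 3), (37, 4), (38, 1), (39, 2), (41, 2), (43, 2), (44, 4)],
  [(0, 2), (1, 4), (2, 6), (3, 6), (4, 4), (6, 2), (7, 6), (8, 1), (9, 1), (10, 4), (11, 4), (13, 6), (14, 1), (15, 3), (16, 3), (18, 1), (19, 4), (20, 5), (21, 2), (22, 3), (23, 4), (24, 6), (25, 5), (26, 3), (27, 4), (28, 4), (29, 2), (32, 1), (33, 5), (34, 4), (35, 6), (37, 3), (38, 3), (39, 1), (40, 4), (41, 1), (42, 5), (43, 5), (44, 1)],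
  [(0, 5), (1, 4), (2, 6), (3, 2), (5, 6), (6, 4), (7, 2), (8, 4), (10, 4), (11, 1), (12, 4), (13, 3), (14, 4), (16, 2), (17, 3), (18, 3), (19, 2), (20, 5), (21, 5), (23, 1), (25, 2), (27, 5), (30, 6), (31, 5), (35, 2), (36, 4), (37, 2), (40, 5), (44, 2)],
  [(0, 2), (2, 2), (3, 1), (4, 4), (5, 1), (6, 1), (7, 1), (8, 2), (9, 3), (10, 4), (12, 4), (13, 5), (14, 1), (15, 1), (16, 4), (17, 1), (18, 5), (19, 4), (20, 2), (21, 6), (23, 2), (24, 6), (25, 1), (26, 1), (28, 6), (29, 5), (30, 5), (31, 6), (32, 2), (33, 4), (36, 5), (38, 2), (41, 2), (42, 1), (43, 3), (44, 2)],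
  [(1, 4), (2, 4), (3, 3), (4, 6), (6, 5), (8, 5), (9, 3), (10, 1), (11, 6), (13, 5), (14, 4), (15, 4), (16, 1), (17, 5), (18, 2), (19, 3), (20, 2), (21, 3), (23, 5), (24, 3), (25, 2), (26, 6), (27, 2), (29, 3), (30, 1), (31, 3), (32, 3), (34, 3), (35, 2), (36, 2), (37, 2), (38, 4), (41, 3), (42, 4)],
  [(0, 4), (1, 4), (2, 4), (4, 3), (5, 1), (6, 3), (7, 4), (8, 4), (9, 1), (10, 5), (11, 6), (12, 3), (13, 3), (14, 2), (16, 4), (17, 3), (18, 1), (19, 3), (20, 5), (21, 4), (22, 4), (23, 2), (24, 5), (26, 5), (27, 4), (28, 5), (29, 6), (30, 3), (31, 6), (32, 3), (33, 4), (34, 4), (35, 6), (37, 1), (38, 5), (39, 2), (41, 6), (42, 1), (43, 4), (44, 6)],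
  [(0, 6), (1, 3), (2, 4), (3, 5), (4, 2), (5, 6), (7, 1), (10, 5), (11, 2), (13, 3), (15, 6), (16, 3), (17, 3), (18, 5), (19, 2), (20, 4), (21, 3), (22, 1), (23, 5), (24, 1), (25, 6), (26, 2), (27, 5), (29, 1), (30, 6), (32, 5), (33, 6), (34, 5), (36, 2), (37, 5), (38, 1), (40, 4), (41, 6), (42, 1), (43, 6), (44, 6)],
  [(0, 5), (2, 2), (3, 6), (4, 4), (5, 1), (6, 1), (7, 6), (8, 5), (9, 3), (10, 6), (12, 4), (13, 2), (14, 6), (15, 1), (16, 4), (17, 1), (18, 5), (19, 6), (20, 1), (21, 1), (23, 6), (24, 6), (25, 2), (26, 3), (28, 1), (29, 4), (30, 2), (31, 4), (33, 4), (34, 2), (36, 5), (37, 5), (38, 1), (40, 2), (41, 2), (42, 2), (43, 3)],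
  [(1, 3), (2, 2), (3, 1), (4, 6), (5, 2), (6, 4), (8, 1), (9, 6), (10, 1), (11, 1), (12, 1), (13, 1), (14, 2), (16, 4), (17, 4), (19, 6), (21, 1), (22, 6), (23, 5), (26, 4), (27, 4), (29, 2), (30, 4), (31, 6), (32, 2), (33, 2), (34, 2), (35, 4), (37, 6), (38, 4), (39, 6), (40, 2), (41, 2), (42, 4), (43, 3), (44, 2)],
  [(0, 3), (1, 4), (2, 2), (3, 4), (4, 3), (5, 6), (6, 3), (7, 3), (8, 3), (9, 1), (10, 6), (11, 6), (12, 4), (13, 4), (14, 5), (15, 2), (16, 1), (17, 3), (19, 6), (22, 4), (23, 4), (25, 5), (26, 5), (27, 6), (28, 2), (29, 6), (30, 4), (31, 3), (32, 4), (33, 4), (34, 3), (35, 4), (36, 1), (38, 1), (39, 2), (40, 6), (41, 6), (42, 5), (43, 4)]]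

def g1 : List (List (Nat × Nat)) := [
  [(0, 5), (1, 6), (2, 3), (3, 4), (5, 3), (6, 2), (7, 5), (8, 1), (10, 3), (11, 5), (12, 2), (13, 6), (14, 5), (15, 5), (16, 1), (17, 5), (18, 4), (19, 3), (20, 4), (21, 3), (23, 6), (24, 5), (25, 3), (26, 5), (27, 1), (28, 5), (29, 1), (30, 4), (31, 4), (32, 4), (34, 3), (35, 6), (36, 3), (37, 2), (38, 6), (40, 2), (42, 1), (44, 5)],
  [(0, 5), (1, 2), (2, 1), (3, 5), (4, 6), (5, 2), (6, 6), (7, 4), (10, 4), (11, 2), (12, 5), (13, 5), (14, 3), (16, 5), (18, 6), (19, 6), (21, 6), (23, 2), (24, 5), (25, 5), (26, 3), (27, 4), (28, 6), (29, 3), (30, 4), (31, 2), (33, 2), (34, 6), (35, 4), (36, 3), (37, 4), (38, 1), (40, 4), (41, 5), (42, 6), (44, 1)],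
  [(0, 5), (1, 1), (2, 4), (3, 4), (4, 6), (5, 3), (6, 1), (7, 3), (8, 1), (9, 5), (10, 3), (11, 6), (12, 4), (13, 4), (14, 6), (15, 6), (16, 1), (17, 4), (18, 2), (19, 1), (20, 2), (21, 5), (23, 1), (24, 1), (25, 6), (26, 5), (27, 2), (28, 6), (29, 6), (30, 6), (33, 6), (35, 3), (36, 3), (37, 2), (38, 3), (39, 3), (42, 2), (43, 2), (44, 3)],
  [(0, 3), (1, 2), (2, 4), (3, 6), (6, 4), (7, 4), (8, 6), (9, 6), (11, 2), (13, 5), (14, 5), (15, 4), (16, 3), (17, 5), (18, 6), (19, 3), (20, 6), (21, 4), (23, 5), (24, 1), (25, 4), (26, 6), (29, 1), (30, 2), (32, 1), (33, 5), (34, 6), (35, 1), (36, 1), (37, 4), (38, 3), (39, 5), (40, 5), (41, 1), (42, 5), (43, 1), (44, 4)],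
  [(2, 2), (3, 1), (4, 6), (5, 6), (6, 6), (8, 2), (9, 3), (10, 1), (12, 3), (13, 2), (14, 6), (15, 3), (16, 4), (17, 6), (18, 2), (19, 5), (20, 6), (21, 1), (22, 2), (23, 5), (24, 4), (25, 6), (26, 4), (27, 1), (29, 2), (30, 5), (31, 5), (32, 6), (33, 6), (34, 6), (35, 1), (36, 2), (37, 4), (38, 5), (39, 6), (41, 6), (42, 5), (43, 3)],
  [(0, 1), (1, 6), (2, 3), (3, 6), (4, 4), (5, 1), (6, 3), (7, 3), (8, 2), (9, 4), (10, 6), (11, 3), (14, 2), (15, 3), (16, 1), (18, 1), (19, 5), (20, 2), (21, 3), (22, 1), (23, 4), (24, 1), (26, 1), (27, 2), (28, 1), (29, 3), (30, 1), (31, 1), (32, 5), (33, 5), (34, 1), (35, 5), (37, 1), (38, 4), (39, 6), (41, 2), (42, 6), (43, 4), (44, 6)],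
  [(0, 2), (1, 6), (2, 5), (3, 2), (4, 6), (5, 2), (6, 4), (7, 4), (8, 3), (9, 4), (10, 2), (11, 6), (12, 6), (13, 6), (14, 3), (15, 3), (16, 1), (19, 6), (21, 3), (23, 1), (24, 3), (25, 2), (26, 2), (28, 2), (29, 3), (30, 2), (31, 1), (33, 3), (34, 3), (35, 4), (36, 2), (37, 5), (38, 3), (39, 4), (41, 6), (42, 2), (43, 5), (44, 6)],
  [(0, 3), (5, 1), (6, 1), (7, 6), (8, 2), (10, 4), (12, 3), (13, 5), (14, 3), (15, 4), (17, 6), (18, 5), (19, 6), (20, 6), (23, 1), (24, 4), (25, 1), (26, 2), (27, 5), (28, 3), (29, 6), (30, 1), (31, 1), (35, 2), (36, 2), (37, 2), (38, 6), (40, 2), (42, 1), (44, 5)],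
  [(0, 6), (1, 5), (2, 5), (3, 1), (4, 5), (5, 2), (6, 4), (7, 4), (8, 2), (10, 5), (11, 1), (12, 1), (13, 5), (14, 2), (17, 5), (18, 2), (19, 5), (20, 6), (21, 5), (22, 3), (23, 1), (24, 2), (25, 6), (26, 5), (27, 1), (28, 4), (30, 5), (32, 6), (33, 3), (34, 1), (35, 6), (36, 3), (37, 5), (39, 5), (41, 4), (43, 6), (44, 3)],
  [(2, 1), (5, 3), (6, 3), (8, 6), (9, 2), (10, 1), (12, 5), (13, 6), (14, 4), (15, 6), (16, 2), (17, 3), (18, 5), (20, 4), (22, 1), (23, 5), (24, 1), (25, 4), (26, 6), (27, 6), (29, 3), (30, 1), (32, 4), (33, 1), (34, 4), (35, 6), (36, 5), (37, 1), (38, 1), (39, 5), (40, 2), (41, 5), (42, 1), (44, 2)],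
  [(4, 4), (6, 5), (7, 3), (8, 2), (10, 1), (11, 6), (12, 4), (13, 3), (14, 2), (15, 6), (16, 5), (18, 2), (19, 5), (20, 6), (21, 3), (22, 4), (23, 1), (24, 2), (25, 6), (26, 1), (27, 3), (28, 6), (29, 2), (30, 3), (31, 2), (33, 1), (34, 6), (35, 2), (36, 2), (37, 2), (38, 1), (39, 5), (40, 4), (41, 2), (42, 2), (43, 3), (44, 4)],
  [(0, 6), (1, 4), (2, 4), (3, 4), (4, 4), (5, 2), (7, 2), (8, 1), (10, 4), (11, 2), (12, 3), (14, 6), (15, 6), (16, 6), (17, 4), (18, 2), (19, 6), (20, 1), (21, 1), (23, 4), (26, 4), (27, 5), (28, 3), (29, 1), (30, 4), (31, 4), (32, 4), (33, 6), (35, 5), (36, 4), (37, 1), (38, 4), (40, 3), (41, 1), (42, 3), (44, 5)],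
  [(0, 5), (1, 4), (2, 1), (3, 6), (4, 1), (7, 1), (9, 1), (10, 3), (11, 4), (12, 1), (13, 4), (14, 1), (15, 5), (16, 5), (17, 6), (19, 2), (21, 5), (22, 2), (23, 4), (24, 1), (25, 4), (26, 5), (27, 3), (28, 5), (29, 1), (30, 1), (31, 3), (32, 2), (33, 3), (34, 3), (35, 4), (36, 2), (37, 1), (38, 5), (39, 5), (40, 5), (41, 4), (42, 1), (43, 1)],
  [(0, 1), (1, 3), (3, 5), (4, 5), (5, 2), (6, 5), (7, 3), (8, 5), (10, 3), (11, 4), (12, 1), (13, 2), (14, 6), (15, 5), (16, 3), (17, 4), (18, 3), (20, 6), (21, 1), (22, 3), (23, 4), (25, 6), (27, 6), (28, 3), (29, 6), (30, 4), (31, 5), (32, 1), (33, 3), (34, 6), (35, 1), (36, 2), (37, 5), (39, 5), (40, 3), (41, 4), (43, 6)],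
  [(0, 4), (1, 5), (2, 6), (3, 2), (4, 5), (5, 2), (6, 5), (7, 2), (8, 2), (9, 6), (10, 1), (11, 6), (12, 4), (13, 5), (14, 6), (15, 1), (16, 3), (17, 6), (18, 2), (19, 5), (21, 4), (22, 3), (23, 4), (24, 3), (25, 6), (26, 1), (27, 4), (28, 3), (29, 2), (30, 1), (31, 1), (34, 2), (35, 3), (36, 2), (37, 4), (38, 3), (39, 3), (41, 4), (42, 3), (44, 5)],
  [(0, 5), (1, 3), (2, 5), (3, 2), (4, 2), (7, 4), (8, 2), (9, 6), (10, 1), (11, 3), (12, 6), (13, 1), (14, 3), (15, 2), (19, 3), (20, 2), (21, 1), (22, 5), (25, 2), (26, 6), (27, 1), (28, 6), (31, 5), (34, 1), (35, 1), (36, 3), (37, 5), (38, 6), (39, 5), (40, 5), (41, 2), (42, 6), (43, 3)],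
  [(0, 1), (1, 2), (2, 2), (3, 6), (4, 3), (5, 4), (6, 2), (7, 2), (8, 2), (9, 6), (10, 5), (11, 6), (12, 6), (13, 4), (14, 5), (15, 3), (16, 4), (17, 4), (18, 5), (20, 3), (21, 2), (23, 4), (24, 4), (25, 1), (26, 6), (27, 5), (28, 4), (29, 3), (30, 6), (31, 4), (33, 3), (35, 1), (36, 1), (37, 6), (38, 1), (39, 5), (40, 5), (42, 5), (43, 1)],
  [(0, 5), (1, 4), (2, 4), (3, 3), (4, 6), (5, 5), (7, 3), (8, 6), (9, 4), (10, 3), (11, 2), (12, 1), (13, 3), (14, 1), (15, 4), (16, 3), (17, 4), (18, 2), (19, 1), (20, 2), (21, 2), (23, 3), (24, 4), (26, 6), (27, 4), (28, 5), (29, 1), (30, 6), (31, 6), (32, 3), (33, 3), (37, 3), (38, 2), (39, 4), (40, 6), (41, 6), (42, 3), (43, 5)],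
  [(1, 5), (2, 4), (3, 2), (4, 6), (5, 5), (6, 3), (7, 3), (8, 3), (9, 5), (10, 5), (12, 4), (13, 6), (14, 3), (16, 5), (17, 3), (19, 4), (20, 3), (21, 1), (22, 3), (23, 1), (25, 3), (26, 5), (28, 5), (29, 5), (31, 4), (32, 3), (34, 3), (35, 3), (36, 6), (37, 1), (39, 5), (40, 4), (41, 1), (42, 5), (43, 1), (44, 4)],
  [(1, 2), (2, 4), (3, 6), (4, 1), (5, 1), (6, 5), (7, 4), (9, 4), (10, 6), (11, 6), (12, 5), (14, 1), (15, 5), (17, 5), (19, 5), (20, 2), (21, 6), (22, 4), (25, 3), (26, 6), (27, 6), (28, 5), (29, 3), (30, 1), (31, 4), (32, 5), (33, 5), (34, 1), (35, 2), (36, 2), (37, 3), (38, 5), (39, 2), (41, 4), (42, 2), (43, 5), (44, 5)],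
  [(1, 2), (3, 1), (5, 5), (6, 3), (7, 3), (8, 5), (10, 4), (11, 4), (12, 3), (14, 1), (15, 1), (16, 1), (17, 5), (18, 3), (19, 1), (20, 3), (21, 5), (22, 2), (23, 4), (24, 2), (25, 4), (27, 4), (28, 3), (29, 6), (30, 1), (31, 2), (32, 3), (33, 3), (35, 4), (36, 2), (37, 1), (38, 6), (39, 3), (41, 2), (42, 5), (44, 4)],
  [(0, 4), (1, 6), (2, 5), (3, 4), (6, 5), (7, 3), (8, 5), (9, 6), (10, 1), (11, 3), (13, 6), (14, 1), (15, 6), (16, 1), (17, 4), (18, 1), (20, 4), (21, 6), (24, 3), (25, 6), (26, 2), (27, 1), (29, 3), (30, 3), (31, 3), (32, 6), (33, 5), (34, 1), (36, 6), (37, 2), (38, 5), (39, 5), (40, 4), (41, 1), (42, 3), (43, 1), (44, 5)],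
  [(1, 4), (2, 3), (3, 5), (4, 3), (5, 6), (6, 2), (8, 6), (9, 5), (10, 4), (11, 6), (12, 3), (13, 6), (14, 2), (15, 3), (16, 6), (17, 2), (18, 3), (19, 4), (20, 1), (21, 5), (22, 4), (23, 6), (24, 4), (25, 1), (26, 2), (29, 1), (30, 4), (31, 4), (33, 6), (36, 3), (37, 4), (38, 2), (39, 1), (40, 2), (41, 6), (42, 2), (43, 3), (44, 2)],
  [(1, 5), (2, 4), (3, 2), (4, 5), (5, 3), (7, 5), (8, 2), (10, 2), (13, 6), (14, 1), (15, 1), (17, 1), (18, 6), (19, 6), (20, 4), (22, 5), (23, 1), (24, 3), (25, 4), (26, 5), (27, 6), (28, 3), (29, 5), (30, 5), (31, 1), (32, 4), (33, 3), (35, 2), (36, 6), (37, 2), (38, 6), (39, 1), (40, 5), (41, 6), (42, 3), (43, 2), (44, 5)],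
  [(0, 5), (1, 5), (3, 6), (4, 5), (5, 2), (7, 4), (8, 6), (9, 1), (11, 6), (13, 5), (16, 4), (18, 4), (19, 2), (20, 5), (21, 5), (22, 2), (23, 2), (24, 2), (25, 5), (27, 6), (28, 6), (29, 4), (30, 1), (31, 4), (32, 6), (35, 6), (38, 1), (39, 2), (41, 5), (42, 1), (43, 4), (44, 2)],
  [(1, 5), (2, 4), (3, 5), (5, 6), (6, 5), (7, 4), (10, 5), (11, 3), (12, 6), (13, 5), (14, 4), (15, 5), (17, 3), (18, 2), (19, 2), (20, 4), (21, 1), (22, 2), (23, 6), (24, 6), (25, 3), (26, 5), (27, 4), (28, 4), (30, 2), (31, 1), (33, 3), (34, 3), (35, 4), (36, 3), (37, 4), (38, 5), (39, 3), (40, 4), (41, 2), (42, 6)],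
  [(0, 1), (1, 3), (3, 2), (4, 3), (5, 5), (6, 2), (7, 2), (8, 2), (10, 5), (11, 1), (12, 3), (13, 4), (14, 2), (15, 1), (16, 3), (17, 5), (19, 6), (20, 4), (21, 5), (23, 1), (24, 4), (25, 3), (26, 2), (27, 1), (29, 3), (30, 3), (31, 5), (32, 1), (33, 1), (34, 2), (35, 4), (36, 5), (37, 3), (38, 1), (39, 5), (40, 2), (41, 5), (42, 5), (43, 2), (44, 1)],
  [(0, 4), (2, 5), (3, 3), (4, 1), (5, 6), (6, 1), (7, 4), (8, 4), (9, 6), (10, 6), (11, 4), (13, 1), (15, 6), (18, 6), (19, 4), (20, 2), (21, 4), (23, 3), (24, 2), (26, 2), (27, 1), (28, 2), (29, 1), (30, 4), (31, 2), (32, 2), (33, 4), (34, 3), (35, 6), (36, 5), (37, 3), (38, 3), (39, 4), (40, 1), (42, 5), (43, 2), (44, 1)],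
  [(0, 2), (1, 6), (2, 6), (3, 1), (5, 2), (6, 2), (7, 1), (8, 3), (10, 2), (11, 5), (12, 6), (13, 4), (14, 4), (16, 2), (17, 5), (18, 1), (19, 4), (20, 4), (21, 6), (23, 4), (25, 3), (27, 1), (28, 6), (30, 6), (31, 3), (32, 4), (34, 3), (35, 6), (36, 6), (37, 1), (38, 1), (40, 1), (42, 6), (44, 6)],
  [(0, 5), (1, 6), (2, 3), (3, 3), (4, 6), (5, 5), (6, 3), (7, 3), (8, 1), (10, 6), (11, 2), (12, 5), (13, 4), (14, 3), (15, 6), (17, 4), (18, 3), (19, 3), (20, 6), (21, 4), (23, 1), (24, 5), (25, 1), (26, 5), (27, 1), (29, 2), (30, 1), (31, 5), (32, 4), (33, 2), (34, 2), (35, 2), (37, 5), (38, 3), (39, 3), (40, 2), (41, 3), (42, 2), (43, 4), (44, 4)],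
  [(0, 5), (1, 2), (2, 6), (3, 2), (4, 6), (5, 4), (6, 3), (7, 6), (8, 6), (9, 3), (10, 6), (11, 2), (12, 4), (13, 1), (14, 2), (15, 2), (16, 6), (17, 6), (18, 1), (19, 4), (20, 3), (21, 1), (22, 5), (23, 6), (24, 3), (26, 2), (27, 5), (28, 2), (29, 2), (30, 6), (31, 6), (32, 1), (35, 2), (36, 1), (37, 3), (38, 5), (39, 5), (40, 6), (41, 2), (42, 5)],
  [(1, 4), (3, 6), (4, 1), (5, 3), (6, 5), (7, 3), (9, 4), (11, 3), (12, 4), (14, 4), (16, 1), (17, 5), (18, 2), (19, 4), (20, 3), (21, 6), (22, 4), (23, 2), (24, 2), (25, 2), (26, 6), (27, 2), (28, 2), (29, 3), (30, 2), (31, 5), (32, 1), (33, 5), (34, 5), (35, 6), (38, 2), (39, 2), (40, 5), (41, 4), (42, 5), (43, 5)],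
  [(0, 5), (1, 6), (2, 4), (4, 5), (5, 6), (6, 2), (7, 3), (8, 5), (10, 6), (11, 1), (12, 1), (13, 1), (14, 5), (16, 6), (17, 1), (18, 1), (19, 1), (21, 3), (22, 1), (23, 1), (25, 3), (26, 1), (27, 1), (28, 6), (29, 2), (30, 3), (31, 1), (32, 5), (33, 5), (34, 5), (35, 1), (36, 2), (37, 5), (38, 5), (39, 6), (40, 4), (41, 1), (42, 4), (43, 5), (44, 1)],
  [(1, 4), (2, 5), (3, 4), (4, 4), (6, 3), (9, 2), (10, 1), (11, 6), (15, 2), (16, 3), (17, 3), (18, 5), (20, 2), (21, 4), (22, 2), (23, 5), (24, 5), (25, 2), (26, 2), (27, 1), (29, 1), (32, 3), (33, 6), (34, 3), (35, 1), (36, 5), (37, 5), (38, 5), (39, 4), (40, 5), (41, 4), (42, 5), (44, 5)],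
  [(0, 2), (1, 3), (2, 3), (3, 3), (4, 5), (5, 2), (6, 1), (7, 4), (8, 1), (10, 3), (11, 2), (12, 3), (13, 5), (14, 5), (16, 1), (17, 2), (18, 2), (19, 1), (20, 3), (22, 1), (23, 2), (26, 4), (27, 1), (28, 1), (29, 4), (30, 3), (31, 1), (32, 5), (33, 5), (34, 5), (35, 1), (36, 1), (37, 1), (38, 4), (39, 6), (40, 1), (41, 1), (42, 5), (43, 5), (44, 4)],
  [(0, 3), (1, 5), (3, 4), (4, 1), (7, 3), (8, 1), (9, 6), (10, 2), (12, 3), (13, 4), (14, 2), (15, 5), (16, 3), (17, 1), (18, 5), (19, 2), (21, 3), (23, 2), (24, 1), (25, 2), (26, 2), (27, 6), (28, 5), (29, 1), (31, 4), (32, 3), (33, 4), (34, 2), (35, 1), (36, 6), (37, 4), (38, 5), (39, 4), (40, 1), (42, 3), (43, 2), (44, 1)],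
  [(2, 6), (3, 1), (4, 6), (5, 1), (6, 3), (7, 4), (8, 6), (9, 5), (10, 3), (11, 4), (12, 6), (13, 3), (16, 1), (17, 3), (18, 6), (19, 4), (20, 3), (21, 2), (22, 3), (23, 4), (25, 3), (26, 3), (27, 3), (28, 2), (29, 6), (30, 6), (31, 4), (32, 3), (34, 3), (37, 5), (38, 5), (39, 5), (40, 4), (41, 1), (43, 1), (44, 4)],
  [(0, 3), (1, 3), (3, 5), (5, 4), (6, 3), (10, 1), (11, 6), (12, 5), (14, 1), (15, 6), (17, 4), (18, 5), (19, 4), (20, 3), (21, 2), (23, 2), (24, 6), (25, 4), (26, 4), (27, 6), (28, 6), (29, 5), (30, 5), (31, 3), (32, 3), (34, 4), (35, 1), (36, 2), (37, 3), (38, 2), (40, 4), (42, 5), (44, 3)],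
  [(0, 1), (1, 3), (3, 5), (4, 2), (5, 3), (6, 6), (7, 5), (8, 2), (11, 1), (12, 3), (13, 3), (14, 4), (15, 1), (16, 5), (17, 6), (18, 2), (19, 1), (20, 6), (22, 4), (23, 1), (25, 1), (26, 1), (28, 5), (29, 5), (30, 1), (31, 5), (33, 1), (34, 5), (35, 4), (36, 3), (37, 1), (38, 1), (39, 6), (40, 5), (41, 5), (42, 4), (43, 1), (44, 5)],
  [(2, 5), (3, 5), (4, 3), (5, 5), (6, 6), (8, 1), (10, 2), (12, 6), (13, 1), (14, 1), (15, 4), (16, 3), (17, 6), (18, 4), (20, 5), (21, 5), (23, 3), (24, 3), (25, 5), (26, 4), (27, 3), (29, 2), (30, 2), (32, 2), (34, 2), (35, 3), (36, 4), (37, 1), (38, 2), (39, 1), (40, 3), (41, 5), (42, 2), (43, 4), (44, 3)],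
  [(0, 6), (1, 6), (2, 2), (3, 3), (4, 1), (5, 2), (6, 6), (7, 2), (8, 3), (9, 6), (10, 3), (11, 2), (13, 1), (14, 4), (15, 6), (16, 6), (17, 6), (18, 2), (19, 1), (20, 5), (21, 6), (22, 4), (24, 4), (25, 4), (26, 4), (28, 6), (29, 4), (30, 5), (31, 4), (32, 3), (33, 4), (34, 5), (35, 2), (36, 4), (37, 5), (38, 1), (39, 5), (41, 5), (43, 2), (44, 3)],
  [(0, 5), (2, 6), (3, 4), (4, 4), (5, 1), (6, 6), (8, 1), (9, 6), (10, 2), (11, 6), (12, 2), (13, 1), (14, 1), (15, 4), (16, 5), (17, 3), (18, 6), (19, 5), (20, 1), (21, 6), (22, 6), (23, 5), (24, 2), (25, 5), (27, 3), (28, 3), (29, 5), (31, 1), (32, 2), (33, 4), (34, 6), (35, 4), (36, 1), (37, 6), (38, 1), (39, 6), (40, 4), (41, 5), (42, 6), (43, 1)],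
  [(0, 6), (1, 3), (2, 6), (4, 2), (5, 6), (6, 6), (7, 2), (8, 3), (10, 3), (11, 1), (12, 5), (13, 2), (14, 4), (17, 6), (18, 3), (19, 5), (20, 1), (21, 5), (22, 4), (24, 6), (25, 6), (26, 3), (27, 4), (28, 2), (29, 4), (30, 1), (31, 1), (32, 5), (33, 1), (36, 2), (37, 1), (38, 4), (39, 6), (40, 5), (41, 5), (42, 1), (43, 1), (44, 5)],
  [(1, 4), (3, 3), (4, 3), (5, 2), (6, 1), (8, 3), (9, 5), (10, 1), (11, 6), (12, 1), (13, 3), (14, 1), (15, 1), (17, 1), (18, 5), (19, 3), (20, 3), (21, 3), (22, 5), (23, 5), (24, 6), (25, 3), (26, 4), (29, 2), (30, 2), (31, 3), (32, 6), (33, 1), (34, 6), (36, 5), (37, 2), (38, 2), (39, 1), (40, 1), (41, 3), (42, 2), (44, 1)],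
  [(0, 1), (1, 6), (2, 3), (3, 6), (4, 1), (6, 6), (7, 5), (8, 1), (9, 6), (11, 2), (12, 1), (13, 3), (14, 6), (15, 3), (16, 4), (17, 6), (18, 4), (19, 4), (20, 4), (21, 3), (22, 4), (23, 1), (24, 1), (25, 5), (26, 1), (27, 2), (28, 1), (29, 2), (30, 1), (31, 1), (32, 5), (33, 4), (34, 3), (36, 2), (37, 4), (39, 5), (40, 3), (41, 5), (42, 1), (43, 2)]]

def g2 : List (List (Nat × Nat)) := [
  [(0, 2), (2, 3), (6, 6), (7, 1), (8, 1), (13, 6), (14, 3), (16, 1), (17, 1), (19, 1), (20, 6), (25, 1), (27, 6), (28, 1), (30, 1), (31, 6), (32, 1), (34, 6), (35, 1)],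
  [(1, 1), (2, 6), (3, 4), (4, 5), (5, 1), (6, 1), (7, 4), (8, 4), (9, 5), (10, 1), (11, 1), (12, 1), (13, 6), (14, 2), (15, 2), (17, 2), (18, 5), (19, 6), (20, 2), (21, 5), (22, 5), (23, 1), (25, 4), (26, 6), (27, 4), (28, 5), (32, 1), (33, 4), (34, 4), (36, 6)],
  [(0, 3), (1, 1), (2, 6), (3, 6), (4, 3), (5, 1), (6, 3), (7, 5), (8, 6), (9, 2), (10, 5), (12, 1), (13, 4), (14, 1), (15, 5), (16, 6), (17, 6), (18, 5), (19, 3), (20, 1), (22, 2), (24, 4), (25, 4), (26, 1), (27, 1), (28, 2), (29, 5), (30, 5), (31, 2), (32, 4), (33, 1), (34, 3), (35, 5)],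
  [(1, 4), (2, 1), (3, 6), (4, 4), (6, 4), (7, 4), (8, 5), (9, 1), (10, 5), (11, 4), (12, 6), (13, 3), (14, 2), (15, 5), (17, 2), (18, 1), (19, 3), (20, 2), (21, 6), (22, 6), (23, 2), (24, 2), (25, 6), (27, 5), (28, 2), (29, 1), (31, 6), (32, 4), (33, 6), (34, 6), (35, 6), (36, 6)],
  [(1, 3), (2, 1), (3, 1), (4, 3), (5, 1), (6, 4), (8, 6), (9, 1), (10, 3), (11, 1), (12, 4), (13, 6), (14, 3), (15, 4), (16, 2), (17, 4), (18, 5), (19, 3), (20, 5), (21, 1), (22, 3), (23, 1), (24, 3), (25, 5), (27, 5), (30, 6), (31, 3), (33, 4), (35, 5), (36, 5)],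
  [(1, 1), (2, 6), (4, 4), (5, 1), (6, 5), (7, 3), (8, 2), (9, 2), (10, 6), (11, 3), (12, 4), (14, 6), (15, 1), (16, 3), (19, 2), (20, 5), (21, 5), (24, 6), (25, 2), (26, 6), (27, 5), (28, 1), (29, 2), (30, 1), (31, 5), (32, 2), (33, 5), (34, 4), (35, 3), (36, 2)],
  [(0, 3), (1, 3), (2, 5), (3, 5), (4, 6), (5, 1), (6, 1), (7, 3), (8, 3), (9, 2), (10, 5), (11, 2), (13, 5), (14, 4), (15, 1), (16, 6), (17, 5), (18, 1), (19, 3), (20, 2), (21, 6), (22, 4), (24, 1), (26, 1), (27, 6), (28, 4), (29, 1), (30, 5), (31, 2), (33, 4), (34, 4), (35, 4), (36, 4)],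
  [(0, 2), (1, 6), (2, 3), (3, 6), (5, 1), (6, 5), (7, 4), (8, 4), (10, 4), (11, 5), (12, 3), (13, 3), (14, 4), (15, 3), (16, 1), (17, 2), (18, 3), (19, 5), (20, 3), (21, 1), (23, 1), (24, 3), (25, 4), (26, 5), (27, 2), (28, 1), (29, 1), (30, 6), (31, 2), (32, 1), (34, 6), (35, 5), (36, 4)],
  [(0, 4), (1, 5), (2, 3), (3, 1), (4, 2), (5, 6), (6, 3), (7, 1), (8, 2), (9, 6), (10, 3), (11, 6), (13, 5), (14, 2), (15, 6), (16, 4), (17, 5), (18, 5), (19, 1), (20, 3), (21, 2), (23, 4), (24, 6), (25, 6), (26, 6), (28, 2), (29, 6), (30, 3), (32, 2), (33, 4), (34, 4), (35, 4), (36, 4)],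
  [(1, 5), (2, 5), (3, 1), (4, 4), (5, 2), (6, 3), (8, 2), (9, 6), (10, 4), (11, 4), (12, 1), (13, 2), (14, 6), (16, 3), (17, 3), (18, 6), (19, 4), (20, 5), (21, 1), (22, 2), (23, 6), (25, 5), (26, 5), (27, 6), (29, 6), (30, 5), (31, 4), (32, 6), (33, 6), (34, 6), (35, 6), (36, 6)],
  [(1, 1), (2, 2), (3, 5), (4, 5), (5, 6), (6, 4), (7, 5), (8, 1), (9, 4), (10, 1), (11, 1), (13, 4), (14, 6), (18, 4), (19, 4), (21, 6), (22, 5), (23, 1), (24, 2), (25, 6), (26, 1), (27, 1), (28, 4), (29, 1), (31, 2), (32, 4), (33, 5), (34, 6), (35, 2), (36, 5)],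
  [(1, 2), (3, 1), (4, 1), (5, 6), (6, 6), (7, 2), (8, 4), (9, 1), (10, 2), (11, 1), (12, 5), (13, 5), (16, 1), (17, 3), (18, 4), (20, 5), (21, 5), (22, 1), (23, 1), (24, 1), (25, 6), (28, 6), (29, 2), (30, 5), (31, 4), (32, 5), (33, 5), (34, 3), (35, 5), (36, 1)],
  [(1, 4), (2, 3), (3, 3), (4, 1), (5, 2), (7, 1), (9, 4), (11, 3), (12, 1), (13, 4), (14, 1), (15, 2), (16, 3), (17, 3), (18, 4), (19, 3), (20, 4), (23, 4), (24, 5), (25, 3), (26, 1), (27, 6), (28, 5), (29, 6), (30, 3), (31, 4), (32, 1), (33, 3), (34, 4), (35, 3)],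
  [(0, 3), (1, 4), (2, 2), (3, 2), (4, 2), (6, 5), (7, 6), (8, 5), (9, 6), (10, 5), (11, 4), (12, 3), (13, 2), (14, 5), (15, 1), (16, 6), (17, 3), (18, 4), (20, 6), (21, 1), (23, 1), (24, 1), (25, 3), (26, 5), (27, 4), (28, 5), (29, 3), (30, 4), (31, 1), (32, 4), (33, 4), (34, 2), (36, 5)],
  [(0, 3), (1, 5), (2, 1), (3, 5), (4, 2), (5, 1), (6, 1), (7, 2), (8, 4), (9, 1), (10, 1), (12, 5), (13, 3), (14, 6), (15, 4), (16, 5), (17, 5), (18, 6), (19, 4), (20, 2), (22, 3), (24, 5), (25, 3), (26, 1), (27, 3), (28, 5), (29, 1), (30, 6), (31, 1), (32, 6), (33, 2), (34, 4), (35, 6)],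
  [(1, 2), (2, 2), (3, 5), (4, 2), (5, 1), (6, 5), (7, 2), (8, 2), (12, 4), (13, 5), (14, 3), (15, 3), (16, 1), (17, 2), (18, 2), (19, 3), (20, 4), (21, 5), (22, 5), (23, 4), (24, 6), (26, 6), (27, 5), (28, 2), (29, 3), (30, 3), (32, 2), (34, 5), (35, 2), (36, 2)],
  [(0, 2), (2, 5), (4, 5), (5, 1), (6, 3), (7, 1), (8, 2), (9, 1), (11, 6), (12, 2), (13, 3), (14, 3), (15, 5), (16, 6), (17, 5), (19, 1), (20, 2), (21, 3), (22, 1), (23, 2), (24, 1), (25, 4), (26, 5), (27, 6), (28, 6), (29, 2), (30, 1), (31, 5), (32, 5), (33, 4), (34, 2), (35, 4), (36, 6)],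
  [(0, 4), (1, 6), (2, 3), (3, 6), (4, 6), (6, 5), (7, 4), (8, 5), (9, 2), (11, 1), (12, 4), (13, 3), (14, 6), (15, 6), (16, 3), (17, 1), (18, 4), (19, 2), (21, 5), (22, 4), (23, 4), (24, 6), (25, 2), (26, 2), (27, 4), (28, 3), (29, 4), (30, 1), (31, 3), (32, 4), (33, 4), (35, 6), (36, 1)],
  [(1, 5), (2, 2), (3, 1), (4, 6), (6, 5), (7, 2), (8, 4), (9, 6), (10, 4), (11, 2), (12, 1), (13, 6), (14, 1), (15, 2), (17, 6), (18, 6), (19, 6), (20, 6), (21, 6), (22, 4), (23, 4), (24, 5), (25, 3), (27, 4), (28, 4), (29, 6), (31, 2), (32, 5), (33, 1), (34, 3), (35, 2), (36, 6)],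
  [(0, 4), (1, 4), (2, 5), (3, 2), (4, 1), (5, 6), (6, 3), (7, 3), (8, 1), (9, 5), (10, 5), (12, 4), (14, 2), (15, 2), (16, 2), (17, 2), (18, 4), (19, 4), (20, 4), (21, 4), (22, 4), (23, 2), (25, 5), (26, 6), (28, 1), (29, 4), (30, 1), (31, 5), (32, 6), (33, 1), (34, 3), (35, 2), (36, 6)],
  [(0, 3), (1, 6), (2, 4), (3, 6), (4, 4), (5, 1), (6, 2), (7, 6), (8, 3), (9, 1), (11, 4), (12, 3), (13, 6), (14, 1), (15, 5), (16, 4), (18, 4), (19, 4), (20, 4), (21, 4), (22, 1), (23, 6), (25, 5), (26, 1), (27, 2), (28, 4), (29, 3), (30, 3), (31, 5), (33, 5), (34, 1), (35, 3), (36, 2)],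
  [(1, 5), (3, 6), (4, 4), (5, 5), (6, 2), (7, 3), (8, 3), (9, 1), (10, 6), (11, 6), (13, 5), (15, 5), (16, 2), (17, 4), (18, 6), (19, 6), (20, 6), (21, 6), (22, 6), (23, 4), (24, 2), (25, 2), (26, 2), (27, 6), (28, 5), (30, 4), (31, 3), (32, 6), (33, 6), (34, 4), (35, 5), (36, 1)],
  [(1, 3), (2, 3), (3, 5), (4, 3), (6, 5), (9, 4), (10, 3), (11, 1), (14, 1), (15, 3), (16, 6), (17, 5), (18, 1), (19, 5), (20, 3), (21, 5), (22, 3), (23, 1), (24, 4), (25, 3), (26, 1), (27, 4), (29, 4), (30, 2), (31, 5), (32, 6), (33, 1), (34, 6), (35, 4), (36, 1)],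
  [(1, 2), (3, 4), (4, 1), (7, 6), (8, 5), (9, 5), (10, 2), (11, 1), (12, 2), (13, 3), (15, 1), (16, 5), (17, 5), (18, 1), (19, 6), (20, 4), (21, 1), (22, 1), (23, 1), (26, 6), (27, 6), (28, 2), (29, 5), (30, 1), (31, 5), (32, 4), (33, 1), (34, 5), (35, 3), (36, 5)],
  [(2, 3), (3, 2), (4, 5), (5, 6), (6, 5), (7, 2), (8, 2), (10, 2), (11, 4), (12, 3), (13, 5), (14, 2), (15, 6), (16, 3), (17, 2), (18, 5), (21, 2), (22, 2), (24, 3), (25, 3), (26, 1), (27, 5), (28, 2), (29, 4), (30, 1), (31, 4), (32, 2), (34, 5), (35, 2), (36, 5)],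
  [(0, 4), (1, 5), (2, 2), (3, 4), (4, 4), (5, 6), (7, 1), (8, 6), (9, 1), (10, 4), (11, 2), (12, 4), (13, 3), (14, 5), (16, 1), (17, 2), (18, 2), (19, 5), (20, 5), (21, 6), (22, 1), (24, 2), (25, 4), (26, 6), (27, 3), (28, 3), (29, 4), (30, 2), (31, 4), (32, 1), (33, 5), (35, 2), (36, 4)],
  [(1, 6), (2, 6), (5, 6), (6, 5), (7, 1), (8, 2), (9, 5), (10, 1), (12, 2), (13, 4), (14, 6), (15, 6), (16, 1), (17, 3), (19, 2), (20, 5), (21, 2), (22, 4), (23, 3), (24, 1), (25, 2), (26, 1), (27, 5), (28, 3), (29, 4), (30, 3), (31, 5), (32, 2), (33, 2), (36, 5)],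
  [(0, 3), (1, 5), (2, 4), (3, 1), (4, 4), (5, 1), (6, 6), (7, 4), (9, 4), (10, 3), (12, 1), (13, 4), (14, 5), (15, 1), (16, 5), (17, 4), (18, 5), (20, 2), (21, 4), (22, 6), (23, 2), (24, 1), (25, 3), (26, 1), (27, 1), (28, 3), (30, 6), (31, 2), (32, 3), (33, 2), (34, 5), (35, 5), (36, 6)],
  [(0, 2), (1, 4), (2, 4), (3, 3), (5, 5), (6, 2), (7, 1), (8, 1), (10, 6), (11, 1), (12, 1), (13, 6), (14, 3), (15, 3), (16, 6), (17, 5), (18, 6), (19, 4), (20, 2), (21, 4), (23, 5), (24, 3), (25, 5), (26, 1), (27, 5), (28, 4), (29, 3), (30, 1), (31, 3), (32, 4), (34, 3), (35, 2), (36, 1)],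
  [(2, 1), (3, 4), (5, 1), (6, 6), (7, 5), (8, 1), (9, 3), (10, 4), (11, 4), (12, 6), (13, 4), (14, 3), (15, 5), (16, 3), (17, 3), (18, 3), (19, 3), (20, 4), (22, 1), (23, 3), (24, 2), (25, 3), (26, 2), (28, 1), (29, 1), (30, 3), (31, 4), (33, 4), (34, 4), (35, 3)],
  [(0, 2), (2, 3), (4, 1), (5, 5), (6, 6), (7, 6), (8, 5), (9, 4), (11, 2), (12, 2), (13, 2), (14, 5), (15, 1), (16, 1), (17, 4), (19, 4), (20, 5), (21, 6), (22, 5), (23, 6), (24, 5), (25, 1), (26, 1), (27, 3), (28, 1), (29, 2), (30, 6), (31, 2), (32, 2), (33, 1), (34, 3), (35, 5), (36, 3)],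
  [(0, 3), (2, 1), (3, 4), (4, 1), (5, 1), (6, 2), (7, 4), (9, 5), (10, 6), (11, 6), (12, 3), (13, 1), (14, 4), (16, 3), (17, 3), (18, 6), (19, 5), (20, 5), (21, 2), (22, 4), (23, 4), (24, 5), (25, 4), (26, 1), (27, 2), (28, 6), (29, 3), (30, 4), (31, 4), (32, 3), (33, 1), (34, 6), (36, 4)],
  [(0, 4), (1, 3), (2, 2), (3, 5), (5, 6), (7, 2), (8, 2), (9, 4), (10, 5), (11, 4), (12, 6), (13, 4), (14, 3), (15, 6), (16, 3), (17, 4), (18, 1), (19, 6), (21, 4), (22, 2), (23, 6), (24, 6), (25, 1), (26, 6), (27, 3), (28, 1), (30, 4), (31, 3), (32, 2), (33, 6), (34, 5), (35, 5), (36, 2)],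
  [(1, 4), (2, 6), (3, 6), (4, 2), (5, 5), (6, 6), (8, 6), (9, 6), (10, 5), (11, 6), (12, 6), (13, 6), (14, 5), (16, 5), (17, 6), (18, 1), (19, 5), (20, 4), (21, 6), (22, 4), (23, 4), (25, 4), (26, 2), (27, 3), (29, 1), (30, 3), (31, 5), (32, 2), (33, 6), (34, 2), (35, 3), (36, 1)],
  [(0, 3), (1, 5), (2, 5), (3, 4), (5, 5), (6, 4), (7, 5), (8, 4), (9, 4), (10, 4), (11, 1), (12, 3), (13, 2), (14, 2), (15, 1), (16, 4), (18, 2), (19, 3), (20, 1), (21, 5), (22, 2), (23, 4), (24, 1), (27, 5), (28, 6), (29, 3), (30, 6), (31, 6), (32, 5), (33, 6), (34, 2), (35, 3), (36, 1)],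
  [(0, 4), (2, 6), (3, 4), (4, 4), (5, 2), (6, 4), (7, 3), (8, 4), (9, 4), (10, 6), (11, 4), (12, 4), (14, 3), (15, 6), (16, 1), (17, 6), (18, 6), (19, 2), (20, 3), (21, 1), (22, 6), (23, 1), (24, 6), (25, 2), (27, 5), (28, 4), (29, 4), (30, 3), (32, 5), (33, 2), (34, 3), (35, 1), (36, 5)],
  [(1, 6), (3, 6), (4, 6), (5, 2), (6, 6), (7, 5), (8, 6), (9, 6), (10, 5), (11, 4), (13, 4), (15, 2), (16, 4), (17, 5), (18, 6), (19, 2), (20, 3), (21, 1), (22, 4), (23, 6), (24, 5), (25, 6), (26, 5), (27, 2), (28, 3), (30, 2), (31, 6), (32, 3), (33, 1), (34, 5), (35, 4), (36, 6)],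
  [(1, 1), (2, 5), (5, 1), (6, 3), (7, 4), (8, 5), (10, 1), (11, 2), (12, 3), (13, 2), (15, 4), (16, 4), (17, 4), (18, 6), (19, 4), (20, 1), (23, 2), (24, 4), (25, 6), (27, 6), (28, 3), (31, 3), (32, 6), (34, 1), (35, 1), (36, 1), (37, 2), (38, 4), (40, 4), (42, 3), (44, 3)],
  [(1, 2), (2, 1), (3, 6), (4, 2), (7, 5), (9, 5), (10, 4), (11, 1), (12, 4), (13, 5), (14, 5), (15, 6), (16, 5), (17, 3), (18, 5), (19, 6), (20, 3), (21, 6), (22, 5), (23, 4), (24, 4), (25, 4), (26, 1), (28, 2), (29, 4), (30, 3), (31, 3), (32, 3), (33, 2), (34, 2), (35, 6), (36, 4), (37, 5), (38, 5), (39, 1), (40, 1), (41, 1), (42, 3), (43, 5), (44, 5)],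
  [(1, 3), (3, 6), (4, 3), (5, 5), (6, 3), (8, 5), (9, 5), (10, 4), (11, 1), (12, 6), (13, 5), (14, 4), (15, 4), (17, 3), (18, 1), (19, 5), (20, 4), (21, 6), (22, 2), (23, 6), (24, 3), (25, 4), (26, 5), (29, 6), (30, 1), (31, 5), (32, 2), (33, 6), (34, 2), (36, 1), (37, 1), (38, 1), (39, 3), (40, 5), (41, 5), (42, 1), (43, 5), (44, 5)],
  [(1, 5), (2, 1), (3, 4), (4, 2), (5, 4), (6, 4), (7, 5), (8, 2), (9, 1), (10, 1), (11, 2), (12, 6), (14, 5), (15, 3), (16, 5), (19, 6), (20, 1), (21, 4), (22, 6), (23, 3), (25, 2), (26, 1), (27, 4), (28, 2), (29, 4), (30, 3), (31, 3), (32, 3), (33, 4), (34, 2), (35, 3), (36, 6), (37, 5), (38, 1), (39, 5), (40, 5), (41, 1), (42, 5), (43, 1), (44, 3)],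
  [(2, 6), (3, 2), (4, 5), (5, 5), (6, 5), (7, 2), (8, 6), (9, 4), (10, 1), (11, 2), (12, 2), (13, 1), (14, 2), (15, 6), (16, 2), (17, 2), (18, 1), (19, 1), (20, 5), (21, 2), (22, 5), (24, 5), (25, 4), (26, 6), (27, 5), (28, 5), (29, 3), (30, 4), (31, 4), (32, 4), (33, 4), (34, 5), (35, 6), (36, 2), (37, 2), (39, 4), (41, 5), (42, 3), (43, 4), (44, 3)],
  [(1, 3), (2, 6), (3, 6), (4, 2), (5, 1), (6, 3), (7, 2), (8, 5), (9, 5), (10, 5), (11, 3), (14, 5), (15, 3), (16, 2), (18, 4), (19, 3), (20, 4), (21, 6), (22, 5), (23, 6), (24, 1), (25, 3), (26, 1), (27, 6), (28, 5), (29, 4), (30, 3), (31, 6), (32, 2), (33, 2), (34, 3), (36, 5), (37, 1), (38, 3), (39, 1), (40, 5), (41, 1), (42, 5), (43, 5), (44, 1)],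
  [(1, 2), (3, 2), (4, 3), (5, 6), (6, 4), (8, 2), (9, 4), (10, 5), (11, 3), (12, 3), (13, 2), (14, 4), (15, 5), (17, 4), (18, 5), (19, 5), (21, 2), (22, 4), (23, 4), (24, 2), (26, 5), (27, 1), (29, 6), (30, 1), (31, 5), (32, 2), (33, 3), (34, 2), (35, 1), (36, 5), (37, 1), (38, 5), (39, 5), (40, 1), (41, 5), (42, 5), (43, 3), (44, 1)],
  [(1, 6), (2, 6), (3, 4), (4, 2), (5, 5), (7, 2), (9, 1), (10, 2), (11, 4), (12, 2), (13, 2), (14, 5), (16, 2), (17, 4), (18, 6), (19, 3), (20, 2), (21, 4), (22, 6), (23, 5), (24, 4), (25, 1), (26, 1), (27, 3), (28, 5), (29, 4), (30, 3), (31, 6), (32, 2), (33, 4), (34, 3), (35, 4), (37, 1), (38, 5), (39, 5), (40, 3), (41, 1), (42, 1), (43, 1), (44, 5)]]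

def g3 : List (List (Nat × Nat)) := [
  [(0, 5), (2, 2), (6, 2), (7, 5), (8, 4), (13, 3), (14, 1), (16, 3), (17, 5), (19, 4), (20, 5), (25, 2), (27, 4), (28, 3), (30, 5), (31, 3), (32, 2), (34, 5), (35, 3)],
  [(1, 3), (3, 3), (4, 4), (7, 5), (8, 1), (9, 5), (10, 6), (11, 5), (12, 5), (13, 2), (15, 1), (16, 6), (17, 3), (18, 6), (19, 4), (20, 6), (21, 6), (22, 2), (23, 3), (26, 1), (27, 3), (28, 1), (29, 2), (30, 2), (31, 1), (32, 6), (33, 1), (34, 4), (35, 5), (36, 2)],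
  [(0, 1), (2, 6), (4, 2), (5, 1), (6, 6), (7, 6), (8, 4), (9, 2), (11, 5), (12, 6), (13, 3), (14, 5), (15, 4), (16, 2), (17, 4), (19, 6), (20, 2), (21, 4), (22, 5), (23, 2), (24, 6), (25, 6), (26, 3), (27, 6), (28, 2), (29, 6), (30, 6), (31, 3), (32, 5), (33, 4), (34, 4), (35, 3), (36, 2)],
  [(1, 5), (3, 6), (4, 4), (5, 2), (6, 2), (7, 4), (8, 3), (9, 1), (10, 6), (11, 1), (13, 2), (15, 5), (16, 5), (17, 4), (18, 6), (19, 1), (20, 6), (21, 1), (22, 6), (23, 3), (24, 2), (25, 5), (26, 5), (27, 6), (28, 2), (30, 3), (31, 3), (32, 6), (33, 6), (34, 3), (35, 5), (36, 6)],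
  [(1, 2), (2, 3), (3, 4), (4, 3), (6, 6), (9, 1), (10, 4), (11, 3), (14, 4), (15, 6), (16, 6), (17, 6), (18, 5), (19, 2), (20, 2), (21, 4), (22, 5), (23, 6), (24, 1), (25, 2), (26, 5), (27, 4), (29, 6), (30, 1), (31, 2), (32, 4), (33, 2), (34, 4), (35, 4), (36, 5)],
  [(2, 5), (3, 2), (5, 4), (6, 1), (7, 2), (8, 2), (9, 2), (10, 1), (11, 4), (12, 3), (13, 1), (14, 4), (15, 1), (16, 1), (17, 4), (18, 5), (19, 6), (20, 4), (22, 6), (23, 6), (24, 6), (25, 3), (26, 1), (28, 5), (29, 4), (30, 4), (31, 1), (33, 5), (34, 4), (35, 1)],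
  [(0, 2), (2, 5), (3, 5), (4, 1), (5, 6), (6, 4), (7, 3), (8, 6), (9, 2), (10, 2), (11, 3), (12, 5), (14, 3), (15, 3), (16, 2), (17, 6), (18, 4), (19, 3), (20, 4), (21, 3), (22, 6), (23, 5), (24, 3), (25, 5), (27, 3), (28, 1), (29, 5), (30, 3), (32, 2), (33, 1), (34, 4), (35, 2), (36, 1)],
  [(0, 6), (1, 4), (2, 6), (3, 5), (5, 6), (6, 5), (7, 6), (8, 2), (10, 5), (11, 1), (12, 4), (13, 5), (14, 4), (15, 2), (16, 2), (17, 2), (18, 3), (19, 1), (20, 2), (21, 2), (23, 3), (24, 2), (25, 5), (26, 4), (27, 4), (28, 6), (29, 5), (30, 6), (31, 6), (32, 4), (34, 3), (35, 3), (36, 4)],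
  [(0, 1), (1, 6), (2, 2), (3, 1), (5, 3), (6, 5), (7, 1), (8, 4), (9, 6), (10, 4), (11, 4), (12, 6), (13, 2), (14, 6), (15, 5), (16, 3), (18, 4), (19, 3), (20, 4), (21, 3), (22, 6), (23, 4), (24, 5), (27, 2), (28, 1), (29, 6), (30, 4), (31, 6), (32, 6), (33, 2), (34, 1), (35, 4), (36, 2)],
  [(1, 6), (2, 3), (3, 1), (4, 1), (5, 2), (6, 5), (8, 4), (9, 6), (10, 1), (11, 2), (12, 1), (13, 4), (14, 3), (16, 6), (17, 5), (18, 6), (19, 1), (20, 6), (21, 1), (22, 1), (23, 5), (25, 6), (26, 5), (27, 5), (29, 6), (30, 6), (31, 1), (32, 3), (33, 6), (34, 3), (35, 5), (36, 6)],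
  [(1, 5), (3, 3), (4, 2), (5, 4), (6, 6), (7, 2), (8, 6), (9, 4), (10, 3), (11, 6), (12, 1), (13, 4), (16, 2), (17, 3), (18, 5), (20, 2), (21, 1), (22, 1), (23, 5), (24, 4), (25, 1), (28, 5), (29, 6), (30, 5), (31, 6), (32, 2), (33, 6), (34, 4), (35, 3), (36, 3)],
  [(1, 3), (2, 2), (3, 4), (4, 5), (5, 2), (6, 2), (7, 6), (8, 6), (9, 1), (10, 6), (11, 3), (13, 3), (14, 3), (18, 6), (19, 3), (21, 2), (22, 6), (23, 6), (24, 4), (25, 4), (26, 5), (27, 1), (28, 4), (29, 5), (31, 5), (32, 5), (33, 3), (34, 4), (35, 2), (36, 4)],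
  [(1, 3), (2, 1), (5, 5), (6, 1), (7, 3), (8, 2), (9, 4), (10, 1), (12, 4), (13, 4), (14, 4), (15, 2), (16, 6), (17, 2), (19, 2), (20, 6), (21, 4), (22, 5), (23, 3), (24, 5), (25, 1), (26, 2), (27, 2), (28, 4), (29, 1), (30, 2), (31, 5), (32, 1), (33, 3), (36, 3)],
  [(0, 6), (1, 5), (2, 5), (3, 3), (5, 5), (7, 6), (8, 2), (9, 6), (10, 5), (11, 2), (12, 5), (13, 4), (14, 2), (15, 2), (16, 4), (17, 5), (18, 2), (19, 6), (21, 1), (22, 6), (23, 6), (24, 2), (25, 4), (26, 5), (27, 4), (28, 6), (30, 5), (31, 3), (32, 1), (33, 2), (34, 6), (35, 2), (36, 4)],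
  [(0, 2), (2, 6), (4, 6), (5, 6), (6, 6), (7, 2), (8, 6), (9, 1), (11, 2), (12, 5), (13, 2), (14, 6), (15, 5), (16, 3), (17, 3), (19, 3), (20, 3), (21, 4), (22, 2), (23, 6), (24, 1), (25, 6), (26, 2), (27, 3), (28, 3), (29, 5), (30, 2), (31, 1), (32, 4), (33, 4), (34, 3), (35, 2), (36, 1)],
  [(1, 4), (2, 6), (3, 5), (4, 6), (5, 1), (6, 4), (7, 3), (8, 1), (12, 4), (13, 6), (14, 1), (15, 4), (16, 3), (17, 3), (18, 2), (19, 5), (20, 1), (21, 5), (22, 4), (23, 2), (24, 1), (26, 6), (27, 1), (28, 6), (29, 3), (30, 1), (32, 4), (34, 3), (35, 6), (36, 2)],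
  [(0, 3), (1, 4), (2, 4), (3, 2), (4, 1), (5, 6), (6, 2), (7, 4), (8, 5), (9, 1), (10, 3), (12, 2), (13, 2), (14, 5), (15, 4), (16, 6), (17, 3), (18, 1), (19, 5), (20, 3), (22, 6), (24, 5), (25, 1), (26, 6), (27, 5), (28, 6), (29, 6), (30, 5), (31, 3), (32, 2), (33, 2), (34, 6), (35, 3)],
  [(0, 5), (1, 2), (2, 1), (3, 3), (4, 1), (5, 3), (6, 6), (7, 4), (9, 2), (10, 1), (12, 3), (13, 6), (14, 5), (15, 4), (16, 3), (17, 4), (18, 1), (20, 5), (21, 5), (22, 6), (23, 3), (24, 4), (25, 4), (26, 3), (27, 2), (28, 6), (30, 6), (31, 3), (32, 4), (33, 1), (34, 2), (35, 3), (36, 4)],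
  [(1, 3), (3, 6), (4, 5), (5, 5), (6, 3), (7, 1), (8, 5), (9, 6), (10, 3), (11, 5), (13, 6), (15, 2), (16, 6), (17, 6), (18, 6), (19, 3), (20, 5), (21, 6), (22, 2), (23, 2), (24, 5), (25, 4), (26, 2), (27, 4), (28, 1), (30, 6), (31, 5), (32, 5), (33, 1), (34, 1), (35, 1), (36, 1)],
  [(0, 1), (1, 3), (2, 3), (3, 5), (4, 3), (5, 2), (6, 6), (7, 4), (8, 3), (9, 5), (11, 2), (12, 6), (13, 6), (14, 3), (15, 4), (16, 3), (18, 1), (19, 4), (20, 2), (21, 1), (22, 3), (23, 6), (25, 6), (26, 2), (27, 5), (28, 3), (29, 6), (30, 2), (31, 5), (33, 4), (34, 4), (35, 4), (36, 4)],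
  [(0, 5), (1, 4), (2, 4), (3, 1), (4, 5), (5, 3), (6, 4), (7, 4), (8, 2), (9, 1), (10, 3), (12, 2), (14, 5), (15, 6), (16, 3), (17, 5), (18, 2), (19, 1), (20, 4), (21, 2), (22, 3), (23, 4), (25, 5), (26, 3), (28, 5), (29, 2), (30, 6), (31, 3), (32, 6), (33, 3), (34, 3), (35, 3), (36, 3)],
  [(1, 3), (2, 6), (3, 1), (4, 4), (6, 4), (7, 3), (8, 2), (9, 1), (10, 2), (11, 4), (12, 1), (13, 3), (14, 5), (15, 5), (17, 2), (18, 6), (19, 3), (20, 5), (21, 6), (22, 6), (23, 2), (24, 2), (25, 6), (27, 5), (28, 5), (29, 6), (31, 1), (32, 3), (33, 6), (34, 6), (35, 6), (36, 6)],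
  [(1, 4), (2, 2), (3, 3), (4, 6), (5, 3), (6, 4), (8, 2), (9, 4), (10, 1), (11, 6), (12, 5), (13, 2), (14, 3), (15, 2), (16, 4), (17, 4), (18, 1), (19, 1), (20, 2), (21, 3), (22, 3), (23, 5), (24, 5), (25, 2), (27, 3), (30, 6), (31, 1), (33, 2), (35, 3), (36, 1)],
  [(1, 5), (2, 3), (3, 3), (4, 6), (5, 6), (6, 2), (7, 1), (8, 5), (9, 5), (10, 3), (11, 5), (12, 6), (13, 4), (14, 4), (15, 2), (17, 4), (18, 2), (19, 4), (20, 3), (21, 2), (22, 3), (23, 3), (25, 6), (26, 1), (27, 2), (28, 6), (32, 5), (33, 4), (34, 6), (36, 1)],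
  [(2, 2), (3, 2), (4, 1), (5, 6), (6, 4), (7, 3), (8, 1), (10, 1), (11, 1), (12, 3), (13, 6), (14, 3), (15, 1), (16, 2), (17, 3), (18, 5), (21, 2), (22, 3), (24, 4), (25, 6), (26, 1), (27, 1), (28, 6), (29, 4), (30, 5), (31, 2), (32, 4), (34, 3), (35, 6), (36, 5)],
  [(0, 2), (2, 5), (3, 2), (4, 5), (5, 4), (6, 5), (7, 3), (9, 1), (10, 5), (11, 6), (12, 5), (13, 2), (14, 3), (16, 1), (17, 4), (18, 3), (19, 3), (20, 5), (21, 1), (22, 3), (23, 1), (24, 1), (25, 4), (26, 4), (27, 3), (28, 2), (29, 5), (30, 3), (31, 1), (32, 3), (33, 3), (34, 6), (36, 2)],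
  [(1, 4), (2, 1), (3, 5), (4, 5), (5, 1), (7, 6), (9, 5), (11, 3), (12, 4), (13, 1), (14, 6), (15, 6), (16, 1), (17, 4), (18, 2), (19, 6), (20, 4), (23, 1), (24, 1), (25, 3), (26, 4), (27, 2), (28, 4), (29, 3), (30, 4), (31, 1), (32, 1), (33, 2), (34, 4), (35, 1)],
  [(0, 1), (1, 4), (2, 3), (3, 2), (4, 6), (6, 6), (7, 2), (8, 2), (9, 4), (11, 3), (12, 6), (13, 4), (14, 3), (15, 5), (16, 3), (17, 4), (18, 6), (19, 5), (21, 4), (22, 2), (23, 3), (24, 5), (25, 6), (26, 3), (27, 4), (28, 3), (29, 6), (30, 4), (31, 4), (32, 5), (33, 1), (35, 6), (36, 5)],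
  [(0, 3), (1, 3), (2, 4), (3, 5), (5, 2), (6, 1), (7, 5), (8, 4), (10, 4), (11, 6), (12, 6), (13, 3), (14, 5), (15, 1), (16, 6), (17, 6), (18, 6), (19, 5), (20, 5), (21, 2), (23, 1), (24, 1), (25, 2), (26, 3), (27, 5), (28, 6), (29, 2), (30, 4), (31, 2), (32, 4), (34, 3), (35, 2), (36, 1)],
  [(1, 4), (2, 1), (4, 3), (5, 2), (6, 1), (7, 2), (8, 2), (9, 3), (10, 6), (11, 5), (12, 1), (14, 4), (15, 5), (16, 4), (19, 2), (20, 6), (21, 3), (24, 2), (25, 1), (26, 5), (27, 2), (28, 6), (29, 4), (30, 3), (31, 5), (32, 1), (33, 4), (34, 2), (35, 4), (36, 4)],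
  [(0, 6), (1, 3), (2, 6), (3, 2), (4, 3), (5, 5), (6, 5), (7, 6), (8, 1), (9, 4), (10, 2), (12, 5), (13, 3), (14, 4), (15, 3), (16, 6), (17, 3), (18, 4), (19, 4), (20, 3), (22, 1), (24, 1), (25, 5), (26, 5), (27, 1), (28, 2), (29, 4), (30, 6), (31, 5), (32, 5), (33, 2), (34, 2), (35, 5)],
  [(0, 6), (1, 6), (2, 5), (3, 1), (4, 3), (5, 5), (7, 3), (8, 6), (9, 5), (10, 4), (11, 1), (12, 1), (13, 3), (14, 1), (16, 6), (17, 6), (18, 4), (19, 5), (20, 6), (21, 5), (22, 3), (24, 3), (25, 2), (26, 5), (27, 4), (28, 4), (29, 1), (30, 6), (31, 4), (32, 4), (33, 4), (35, 5), (36, 1)],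
  [(0, 2), (1, 4), (2, 3), (3, 1), (4, 3), (6, 2), (7, 1), (8, 3), (9, 4), (10, 3), (11, 4), (12, 5), (13, 4), (14, 2), (15, 3), (16, 2), (17, 4), (18, 2), (20, 6), (21, 4), (23, 2), (24, 3), (25, 3), (26, 6), (27, 6), (28, 4), (29, 5), (30, 3), (31, 2), (32, 4), (33, 5), (34, 2), (36, 6)],
  [(1, 4), (2, 6), (3, 6), (4, 2), (5, 5), (6, 6), (8, 6), (9, 6), (10, 5), (11, 6), (12, 6), (13, 6), (14, 5), (16, 5), (17, 6), (18, 1), (19, 5), (20, 4), (21, 6), (22, 4), (23, 4), (25, 4), (26, 2), (27, 3), (29, 1), (30, 3), (31, 5), (32, 2), (33, 6), (34, 2), (35, 3), (36, 1)],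
  [(0, 5), (1, 5), (2, 1), (3, 4), (4, 3), (5, 3), (6, 4), (7, 6), (8, 4), (9, 4), (10, 6), (11, 6), (13, 3), (14, 5), (15, 4), (16, 6), (17, 2), (18, 6), (19, 2), (20, 3), (21, 1), (23, 1), (24, 4), (25, 6), (26, 3), (28, 3), (29, 3), (30, 4), (32, 2), (33, 5), (34, 4), (35, 6), (36, 2)],
  [(0, 6), (1, 2), (2, 5), (3, 4), (4, 6), (5, 5), (6, 4), (7, 5), (8, 4), (9, 4), (10, 2), (11, 6), (13, 2), (14, 2), (15, 2), (16, 6), (17, 6), (18, 5), (19, 4), (20, 6), (21, 2), (22, 2), (24, 2), (26, 5), (27, 6), (28, 4), (29, 5), (30, 6), (31, 5), (33, 1), (34, 5), (35, 4), (36, 6)],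
  [(1, 1), (2, 3), (3, 6), (4, 5), (6, 6), (7, 6), (8, 6), (9, 6), (10, 6), (11, 1), (12, 6), (13, 5), (14, 3), (15, 2), (17, 3), (18, 1), (19, 5), (20, 4), (21, 6), (22, 2), (23, 1), (24, 5), (25, 5), (27, 1), (28, 6), (29, 1), (31, 3), (32, 1), (33, 1), (34, 5), (35, 4), (36, 6)],
  [(1, 5), (2, 4), (3, 6), (5, 6), (7, 3), (10, 4), (11, 3), (12, 4), (14, 5), (15, 1), (16, 6), (18, 3), (19, 5), (21, 1), (23, 1), (24, 1), (26, 6), (27, 6), (28, 6), (29, 4), (30, 4), (31, 2), (32, 5), (34, 2), (35, 1), (36, 4), (37, 5), (38, 2), (40, 1), (42, 5), (44, 6)],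
  [(0, 6), (1, 6), (2, 5), (4, 6), (5, 5), (6, 6), (8, 6), (9, 6), (10, 1), (11, 1), (12, 1), (13, 6), (14, 4), (15, 4), (16, 4), (17, 6), (19, 5), (20, 4), (21, 6), (23, 6), (24, 6), (26, 1), (27, 5), (28, 4), (29, 1), (30, 6), (32, 3), (33, 4), (34, 3), (35, 5), (37, 5), (38, 5), (39, 1), (40, 5), (41, 5), (42, 1), (43, 6), (44, 6)],
  [(2, 6), (3, 6), (5, 5), (6, 6), (8, 6), (9, 6), (10, 5), (12, 6), (13, 6), (14, 1), (15, 6), (16, 5), (17, 6), (18, 1), (19, 5), (20, 4), (21, 6), (22, 1), (23, 4), (24, 1), (25, 4), (26, 3), (29, 5), (30, 2), (31, 5), (32, 4), (33, 4), (34, 4), (36, 1), (37, 4), (38, 4), (39, 5), (40, 6), (41, 6), (42, 4), (43, 6), (44, 6)],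
  [(0, 5), (1, 2), (2, 1), (3, 6), (4, 5), (5, 5), (8, 2), (9, 4), (11, 6), (12, 2), (13, 4), (14, 1), (15, 6), (17, 4), (22, 6), (23, 4), (24, 3), (26, 2), (27, 2), (28, 5), (29, 5), (30, 5), (32, 4), (33, 5), (34, 1), (35, 4), (36, 5), (37, 3), (38, 6), (39, 6), (40, 5), (41, 3), (42, 3), (43, 4), (44, 1)],
  [(1, 5), (2, 2), (3, 3), (4, 4), (5, 6), (6, 2), (7, 5), (8, 2), (9, 2), (10, 1), (13, 2), (14, 5), (15, 2), (16, 3), (17, 2), (18, 5), (19, 4), (20, 2), (21, 4), (22, 6), (23, 6), (24, 6), (25, 2), (27, 1), (28, 3), (29, 4), (31, 6), (32, 3), (33, 2), (34, 5), (35, 2), (36, 2), (38, 2), (39, 1), (40, 1), (41, 5), (43, 2)],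
  [(0, 1), (1, 3), (2, 2), (3, 6), (4, 6), (5, 2), (6, 6), (8, 6), (9, 6), (10, 4), (11, 2), (12, 6), (13, 6), (14, 3), (15, 1), (16, 3), (17, 6), (23, 5), (24, 3), (25, 4), (26, 2), (27, 5), (28, 3), (29, 4), (30, 1), (31, 5), (32, 3), (33, 4), (34, 3), (35, 5), (37, 4), (38, 1), (39, 1), (40, 6), (41, 5), (42, 5), (43, 6), (44, 5)],
  [(1, 4), (2, 4), (3, 3), (4, 5), (6, 2), (8, 5), (9, 3), (10, 2), (11, 6), (13, 5), (14, 5), (15, 6), (16, 1), (17, 2), (19, 1), (20, 4), (21, 3), (22, 6), (23, 3), (24, 1), (25, 4), (26, 5), (27, 2), (29, 6), (30, 3), (31, 1), (32, 6), (33, 4), (34, 6), (35, 2), (37, 2), (38, 6), (39, 5), (40, 1), (41, 3), (42, 6), (43, 5), (44, 1)],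
  [(0, 2), (1, 4), (4, 5), (5, 4), (6, 4), (8, 4), (9, 4), (10, 5), (11, 3), (12, 6), (13, 2), (14, 6), (15, 4), (16, 2), (18, 5), (21, 6), (22, 6), (24, 1), (26, 3), (27, 4), (28, 2), (29, 1), (30, 2), (32, 1), (33, 5), (34, 4), (35, 2), (37, 1), (38, 3), (39, 6), (40, 1), (41, 3), (42, 6), (43, 4), (44, 5)]]

def g4 : List (List (Nat × Nat)) := [
  [(0, 6)],
  [(10, 6)],
  [(14, 6)],
  [(18, 6)],
  [(22, 6)],
  [(26, 6)],
  [(27, 6)],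
  [(28, 6)],
  [(32, 6)],
  [(33, 6)],
  [(1, 6)],
  [(23, 6)],
  [(29, 6)],
  [(34, 6)],
  [(2, 6)],
  [(24, 6)],
  [(30, 6)],
  [(35, 6)],
  [(3, 6)],
  [(25, 6)],
  [(31, 6)],
  [(36, 6)],
  [(4, 6)],
  [(11, 6)],
  [(15, 6)],
  [(19, 6)],
  [(5, 6)],
  [(6, 6)],
  [(7, 6)],
  [(12, 6)],
  [(16, 6)],
  [(20, 6)],
  [(8, 6)],
  [(9, 6)],
  [(13, 6)],
  [(17, 6)],
  [(21, 6)],
  [(1, 6), (2, 5), (5, 3), (7, 1), (8, 6), (10, 1), (11, 5), (12, 2), (13, 1), (14, 2), (16, 4), (19, 4), (20, 4), (23, 2), (25, 3), (26, 4), (28, 6), (29, 5), (30, 3), (31, 3), (32, 1), (34, 6), (37, 6)],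
  [(2, 6), (4, 4), (5, 1), (7, 3), (8, 1), (9, 4), (11, 2), (12, 2), (14, 1), (15, 5), (16, 1), (19, 3), (20, 4), (22, 5), (23, 5), (24, 2), (25, 1), (26, 6), (28, 4), (29, 5), (30, 6), (32, 2), (33, 1), (34, 3), (40, 6)],
  [(1, 1), (2, 4), (4, 3), (5, 2), (8, 5), (9, 2), (10, 6), (11, 5), (12, 1), (13, 5), (14, 3), (15, 4), (16, 1), (19, 5), (20, 3), (22, 1), (23, 2), (24, 3), (25, 3), (26, 5), (29, 6), (30, 6), (31, 5), (32, 1), (33, 1), (34, 1), (43, 6)],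
  [(2, 6), (4, 2), (5, 1), (7, 3), (8, 5), (9, 6), (11, 2), (12, 2), (13, 4), (14, 1), (15, 5), (16, 1), (19, 6), (22, 3), (23, 5), (24, 2), (25, 4), (26, 6), (28, 4), (29, 5), (30, 6), (31, 3), (32, 6), (33, 3), (38, 6)],
  [(2, 1), (4, 4), (5, 6), (7, 4), (8, 4), (9, 2), (11, 5), (12, 5), (13, 5), (14, 6), (15, 2), (16, 6), (19, 6), (20, 5), (22, 3), (23, 2), (24, 5), (25, 1), (26, 1), (28, 3), (29, 2), (30, 1), (31, 2), (32, 3), (33, 5), (34, 2), (41, 6)],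
  [(1, 6), (2, 4), (4, 4), (5, 4), (7, 4), (9, 4), (10, 1), (12, 4), (13, 1), (14, 3), (15, 5), (16, 5), (20, 1), (22, 5), (24, 2), (25, 4), (26, 3), (28, 3), (29, 3), (30, 2), (31, 3), (32, 3), (33, 1), (34, 2), (44, 6)],
  [(1, 1), (2, 4), (4, 6), (5, 2), (8, 6), (9, 6), (10, 6), (11, 5), (12, 1), (13, 6), (14, 3), (15, 4), (16, 1), (19, 4), (20, 2), (22, 4), (23, 2), (24, 3), (25, 2), (26, 5), (29, 6), (30, 6), (31, 4), (32, 2), (33, 5), (34, 2), (39, 6)],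
  [(1, 6), (2, 4), (4, 2), (5, 4), (7, 4), (8, 4), (9, 6), (10, 1), (12, 4), (13, 5), (14, 3), (15, 5), (16, 5), (19, 3), (20, 4), (22, 3), (24, 2), (26, 3), (28, 3), (29, 3), (30, 2), (31, 6), (33, 3), (34, 6), (42, 6)]]

def g5 : List (List (Nat × Nat)) := [
  [(0, 1), (10, 1), (14, 5), (18, 6), (23, 2), (26, 6), (27, 5), (28, 2), (29, 4), (30, 4), (32, 2), (34, 5), (35, 2), (36, 1)],
  [(0, 6), (10, 5), (11, 5), (14, 6), (15, 5), (18, 4), (19, 4), (22, 1), (23, 6), (26, 6), (27, 2), (28, 5), (30, 1), (32, 3), (33, 3), (34, 4), (35, 5), (36, 5)],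
  [(0, 5), (10, 1), (11, 6), (14, 4), (15, 1), (16, 5), (18, 4), (19, 1), (20, 5), (22, 5), (23, 1), (26, 5), (29, 6), (30, 1), (32, 5), (33, 1), (34, 3), (36, 4)],
  [(0, 1), (10, 4), (11, 6), (14, 3), (15, 3), (16, 3), (18, 6), (19, 4), (20, 5), (21, 1), (22, 2), (23, 4), (26, 4), (27, 2), (28, 4), (29, 2), (30, 6), (32, 3), (33, 1), (34, 6), (35, 1), (36, 6)],
  [(1, 3), (4, 6), (10, 2), (11, 1), (14, 4), (15, 4), (18, 4), (19, 4), (22, 5), (23, 3), (24, 3), (26, 5), (29, 6), (30, 1), (31, 4), (32, 2), (33, 4), (34, 2), (36, 4)],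
  [(0, 1), (1, 6), (4, 3), (10, 6), (11, 1), (12, 4), (14, 2), (15, 6), (16, 3), (18, 4), (19, 1), (20, 5), (22, 6), (24, 4), (26, 5), (27, 1), (28, 1), (29, 6), (30, 4), (31, 4), (32, 4), (33, 2), (35, 5), (36, 4)],
  [(0, 6), (1, 4), (4, 3), (10, 6), (11, 5), (12, 1), (15, 2), (16, 1), (17, 6), (18, 6), (19, 4), (20, 5), (21, 1), (23, 5), (24, 2), (26, 3), (27, 4), (28, 6), (29, 4), (31, 3), (32, 2), (33, 4), (34, 3), (35, 4), (36, 3)],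
  [(0, 4), (1, 1), (2, 1), (5, 6), (7, 1), (10, 4), (11, 2), (12, 4), (15, 6), (16, 5), (18, 6), (19, 5), (20, 4), (23, 1), (24, 6), (25, 3), (26, 5), (27, 3), (28, 2), (29, 1), (31, 2), (32, 2), (34, 5), (35, 4), (36, 1)],
  [(0, 1), (2, 3), (4, 3), (5, 6), (7, 2), (10, 2), (11, 3), (12, 2), (13, 1), (14, 6), (15, 5), (16, 2), (17, 4), (18, 2), (19, 6), (20, 4), (21, 5), (22, 3), (23, 4), (24, 5), (25, 5), (26, 5), (27, 2), (28, 4), (30, 3), (31, 1), (32, 1), (33, 3), (34, 4), (35, 3), (36, 4)],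
  [(1, 2), (2, 5), (3, 6), (4, 4), (5, 5), (6, 3), (8, 5), (9, 6), (10, 3), (11, 3), (12, 6), (13, 5), (14, 6), (16, 3), (17, 3), (18, 1), (19, 3), (20, 2), (21, 6), (22, 2), (23, 1), (25, 2), (26, 2), (27, 6), (29, 1), (30, 5), (31, 3), (32, 1), (33, 6), (34, 1), (35, 6), (36, 1)],
  [(22, 5), (23, 5), (26, 6), (27, 6), (28, 3), (29, 5), (30, 6), (33, 2), (34, 3), (35, 5), (36, 4)],
  [(0, 3), (1, 3), (10, 5), (14, 5), (18, 1), (22, 3), (23, 5), (24, 6), (27, 1), (28, 6), (29, 2), (30, 1), (31, 5), (32, 5), (33, 2), (34, 2), (35, 6), (36, 5)],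
  [(0, 5), (1, 6), (2, 3), (4, 6), (5, 2), (11, 4), (14, 4), (15, 6), (18, 1), (19, 1), (22, 5), (23, 4), (24, 2), (25, 3), (26, 3), (27, 3), (28, 5), (29, 5), (30, 1), (31, 2), (33, 4), (34, 1), (35, 2), (36, 1)],
  [(0, 6), (1, 2), (2, 1), (3, 5), (4, 3), (5, 4), (6, 4), (7, 5), (8, 1), (10, 5), (12, 3), (14, 5), (15, 2), (16, 6), (18, 4), (19, 1), (20, 5), (22, 3), (23, 3), (24, 2), (25, 4), (27, 3), (28, 3), (29, 6), (30, 5), (31, 6), (32, 4), (33, 3), (34, 1), (35, 2), (36, 2)],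
  [(28, 4), (29, 1), (30, 5), (32, 6), (33, 2), (34, 2), (35, 1), (36, 2)],
  [(22, 5), (23, 3), (24, 1), (26, 4), (27, 3), (28, 4), (29, 4), (30, 2), (31, 4), (32, 4), (34, 3), (35, 4), (36, 4)],
  [(0, 1), (1, 2), (2, 3), (10, 5), (14, 2), (18, 2), (22, 6), (23, 6), (24, 3), (25, 6), (26, 6), (29, 3), (30, 4), (31, 4), (32, 5), (33, 4), (34, 6), (36, 2)],
  [(0, 1), (1, 1), (2, 4), (3, 1), (4, 3), (5, 2), (6, 6), (10, 1), (11, 6), (15, 5), (18, 3), (19, 3), (23, 2), (24, 5), (25, 5), (26, 1), (27, 4), (28, 1), (29, 5), (31, 4), (32, 3), (33, 4), (34, 2), (35, 4), (36, 6)],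
  [(33, 6), (34, 4), (35, 5), (36, 1)],
  [(28, 6), (29, 4), (30, 5), (31, 1), (32, 5), (33, 6), (34, 4), (35, 5), (36, 1)],
  [(22, 6), (23, 4), (24, 5), (25, 1), (26, 5), (27, 3), (28, 4), (29, 5), (30, 1), (31, 3), (32, 1), (33, 2), (34, 6), (35, 4), (36, 5)],
  [(0, 6), (1, 4), (2, 5), (3, 1), (10, 5), (14, 3), (18, 6), (22, 2), (23, 6), (24, 4), (25, 5), (26, 4), (27, 1), (28, 3), (29, 2), (30, 6), (31, 4), (32, 6), (33, 1), (34, 3), (35, 2), (36, 6)],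
  [(22, 6), (26, 6), (27, 2), (29, 3), (32, 2), (33, 1), (34, 2), (35, 2)],
  [(10, 3), (14, 2), (18, 5), (22, 1), (26, 2), (27, 1), (28, 5), (29, 2), (32, 2), (33, 6), (35, 4)],
  [(10, 5), (14, 6), (15, 1), (18, 3), (19, 3), (22, 2), (26, 6), (27, 3), (28, 4), (29, 5), (32, 4), (34, 3), (35, 4)],
  [(10, 5), (14, 4), (15, 2), (18, 5), (19, 3), (20, 1), (22, 6), (26, 3), (27, 4), (28, 3), (29, 6), (32, 6), (33, 2), (34, 1), (35, 3)],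
  [(28, 4), (29, 4), (32, 2), (33, 5), (34, 6), (35, 3)],
  [(33, 2), (34, 4), (35, 6)],
  [(28, 1), (32, 1), (34, 6)],
  [(26, 2), (27, 6), (28, 6), (32, 5), (33, 3), (34, 4)],
  [(14, 3), (18, 1), (26, 1), (27, 4), (28, 5), (32, 1), (33, 1), (34, 3)],
  [(14, 6), (18, 1), (19, 1), (26, 1), (27, 5), (28, 1), (32, 4), (33, 6), (34, 5)],
  [(33, 1), (34, 1)],
  [(33, 6)],
  [(32, 1), (33, 1)],
  [(27, 6), (32, 4), (33, 2)],
  [(18, 1), (27, 5), (32, 4), (33, 6)],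
  [(37, 1), (38, 2), (42, 5)],
  [(39, 5), (42, 1)],
  [(39, 6)],
  [(38, 5), (39, 4), (41, 2), (42, 3), (44, 1)],
  [(37, 1), (38, 4), (39, 1), (41, 6), (42, 2)],
  [(38, 1), (39, 5)],
  [(37, 2), (38, 4), (39, 3), (40, 5), (41, 3), (42, 4), (43, 6), (44, 5)],
  [(37, 5), (38, 3), (39, 4), (40, 1), (41, 2), (42, 5)]]

def g6 : List (List (Nat × Nat)) := [
  [(4, 6), (5, 6), (6, 5), (9, 6), (11, 6), (13, 6), (15, 1), (17, 6), (19, 5), (21, 6), (22, 6), (23, 6), (24, 1), (25, 5), (26, 6), (27, 5), (33, 6), (34, 6), (35, 6), (36, 6)],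
  [(1, 5), (3, 3), (4, 5), (5, 5), (6, 3), (7, 5), (8, 4), (9, 1), (10, 5), (11, 5), (13, 1), (15, 2), (16, 2), (17, 1), (18, 3), (19, 3), (20, 4), (21, 1), (22, 2), (23, 2), (24, 5), (25, 4), (26, 2), (27, 4), (28, 5), (30, 2), (31, 4), (32, 4), (33, 6), (34, 6), (35, 6), (36, 6)],
  [(4, 4), (5, 4), (6, 1), (7, 4), (8, 6), (9, 6), (11, 4), (13, 6), (15, 3), (16, 3), (17, 6), (19, 1), (20, 6), (21, 6), (22, 4), (23, 4), (24, 3), (25, 1), (26, 4), (27, 1), (28, 3), (30, 4), (31, 1), (32, 1), (33, 6), (34, 6), (35, 6), (36, 6)],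
  [(1, 3), (3, 6), (4, 2), (5, 2), (6, 4), (7, 1), (8, 5), (9, 1), (10, 3), (11, 2), (13, 1), (15, 5), (16, 6), (17, 1), (18, 6), (19, 4), (20, 5), (21, 1), (22, 5), (23, 5), (24, 2), (25, 3), (26, 5), (27, 3), (28, 1), (30, 6), (31, 5), (32, 5), (33, 6), (34, 6), (35, 6), (36, 6)],
  [(0, 2), (1, 3), (2, 6), (3, 4), (4, 6), (5, 1), (6, 5), (8, 6), (9, 6), (10, 4), (11, 1), (12, 2), (13, 2), (14, 6), (15, 1), (17, 5), (18, 3), (19, 2), (20, 1), (21, 1), (22, 4), (23, 3), (24, 2), (25, 1), (26, 2), (27, 6), (28, 3), (29, 3), (30, 3), (31, 3), (32, 4)],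
  [(0, 1), (1, 5), (2, 3), (3, 2), (4, 4), (5, 3), (6, 1), (8, 2), (9, 3), (10, 2), (11, 3), (12, 3), (13, 1), (14, 3), (15, 3), (17, 6), (18, 5), (19, 6), (20, 5), (21, 4), (22, 1), (23, 6), (24, 4), (25, 2), (26, 4), (27, 5), (28, 2), (29, 2), (30, 2), (31, 2), (32, 5)],
  [(0, 6), (1, 2), (2, 4), (3, 5), (4, 4), (5, 3), (6, 1), (8, 3), (9, 2), (10, 5), (11, 3), (12, 1), (13, 3), (14, 4), (15, 3), (17, 4), (18, 2), (19, 6), (20, 4), (21, 5), (22, 2), (23, 5), (24, 1), (25, 4), (26, 1), (27, 3), (28, 1), (29, 1), (30, 1), (31, 1), (32, 6)],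
  [(1, 4), (2, 1), (3, 5), (7, 2), (8, 4), (9, 3), (10, 4), (13, 6), (14, 6), (16, 5), (17, 6), (18, 5), (20, 4), (21, 3), (22, 4), (23, 4), (24, 4), (25, 4), (26, 3), (27, 4)],
  [(1, 5), (2, 3), (3, 1), (4, 2), (5, 6), (6, 3), (7, 1), (8, 2), (9, 6), (10, 5), (11, 2), (13, 5), (14, 4), (15, 1), (16, 6), (17, 5), (18, 1), (19, 3), (20, 2), (21, 6), (22, 6), (23, 6), (24, 6), (25, 6), (26, 1), (27, 6)],
  [(0, 1), (1, 1), (2, 1), (3, 1), (4, 3), (5, 3), (6, 3), (7, 2), (8, 2), (9, 6), (10, 6), (11, 4), (12, 5), (13, 1), (14, 1), (15, 3), (16, 2), (17, 6), (18, 6), (19, 4), (20, 5), (21, 1)],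
  [(1, 5), (3, 3), (4, 2), (5, 2), (6, 4), (7, 5), (8, 4), (9, 6), (10, 5), (11, 2), (13, 6), (15, 5), (16, 2), (17, 6), (18, 3), (19, 4), (20, 4), (21, 6), (22, 5), (23, 5), (24, 2), (25, 3), (26, 5), (27, 3), (28, 5), (30, 2), (31, 4), (32, 4), (33, 1), (34, 1), (35, 1), (36, 1)],
  [(0, 2), (1, 3), (2, 6), (3, 4), (4, 1), (5, 6), (6, 2), (8, 6), (9, 1), (10, 4), (11, 6), (12, 2), (13, 5), (14, 6), (15, 6), (17, 2), (18, 3), (19, 5), (20, 1), (21, 6), (22, 3), (23, 4), (24, 5), (25, 6), (26, 5), (27, 1), (28, 3), (29, 3), (30, 3), (31, 3), (32, 4)],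
  [(4, 4), (5, 5), (6, 6), (9, 6), (11, 4), (13, 5), (15, 2), (17, 5), (19, 6), (21, 6), (22, 6), (23, 6), (24, 6), (25, 6), (26, 1), (27, 6)],
  [(0, 3), (1, 3), (2, 3), (3, 3), (4, 3), (5, 3), (6, 3), (7, 5), (8, 5), (9, 3), (10, 4), (11, 4), (12, 2), (13, 4), (14, 3), (15, 3), (16, 5), (17, 3), (18, 4), (19, 4), (20, 2), (21, 4)],
  [(4, 4), (5, 4), (6, 1), (7, 3), (8, 1), (9, 6), (11, 4), (13, 6), (15, 3), (16, 4), (17, 6), (19, 1), (20, 1), (21, 6), (22, 4), (23, 4), (24, 3), (25, 1), (26, 4), (27, 1), (28, 4), (30, 3), (31, 6), (32, 6), (33, 6), (34, 6), (35, 6), (36, 6)],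
  [(0, 6), (1, 2), (2, 4), (3, 5), (4, 4), (5, 3), (6, 1), (8, 5), (9, 3), (10, 5), (11, 3), (12, 4), (13, 1), (14, 4), (15, 3), (17, 6), (18, 2), (19, 6), (20, 2), (21, 4), (22, 1), (23, 6), (24, 4), (25, 2), (26, 4), (27, 5), (28, 5), (29, 5), (30, 5), (31, 5), (32, 2)],
  [(1, 3), (2, 6), (3, 2), (7, 5), (8, 3), (9, 3), (10, 3), (13, 6), (14, 1), (16, 2), (17, 6), (18, 2), (20, 3), (21, 3), (22, 4), (23, 4), (24, 4), (25, 4), (26, 3), (27, 4)],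
  [(0, 3), (1, 3), (2, 3), (3, 3), (4, 4), (5, 4), (6, 4), (7, 5), (8, 5), (9, 4), (10, 4), (11, 3), (12, 2), (13, 3), (14, 3), (15, 4), (16, 5), (17, 4), (18, 4), (19, 3), (20, 2), (21, 3)],
  [(1, 3), (3, 6), (4, 5), (5, 5), (6, 3), (7, 1), (8, 5), (9, 6), (10, 3), (11, 5), (13, 6), (15, 2), (16, 6), (17, 6), (18, 6), (19, 3), (20, 5), (21, 6), (22, 2), (23, 2), (24, 5), (25, 4), (26, 2), (27, 4), (28, 1), (30, 6), (31, 5), (32, 5), (33, 1), (34, 1), (35, 1), (36, 1)],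
  [(0, 6), (1, 2), (2, 4), (3, 5), (4, 3), (5, 4), (6, 6), (8, 3), (9, 5), (10, 5), (11, 4), (12, 1), (13, 4), (14, 4), (15, 4), (17, 3), (18, 2), (19, 1), (20, 4), (21, 2), (22, 5), (23, 2), (24, 6), (25, 3), (26, 6), (27, 4), (28, 1), (29, 1), (30, 1), (31, 1), (32, 6)],
  [(1, 5), (2, 3), (3, 1), (4, 5), (5, 1), (6, 4), (7, 1), (8, 2), (9, 1), (10, 5), (11, 5), (13, 2), (14, 4), (15, 6), (16, 6), (17, 2), (18, 1), (19, 4), (20, 2), (21, 1), (22, 1), (23, 1), (24, 1), (25, 1), (26, 6), (27, 1)],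
  [(0, 1), (1, 1), (2, 1), (3, 1), (4, 4), (5, 4), (6, 4), (7, 2), (8, 2), (9, 1), (10, 6), (11, 3), (12, 5), (13, 6), (14, 1), (15, 4), (16, 2), (17, 1), (18, 6), (19, 3), (20, 5), (21, 6)],
  [(0, 2), (1, 4), (2, 6), (3, 3), (4, 4), (5, 2), (6, 6), (7, 3), (8, 4), (10, 3), (11, 3), (12, 3), (14, 6), (15, 2), (16, 3), (18, 4), (19, 1), (20, 3), (22, 6), (23, 1), (24, 1), (25, 2), (26, 1), (27, 5), (29, 2), (31, 1), (32, 6), (33, 6), (34, 2), (35, 5), (36, 1)],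
  [(0, 2), (1, 4), (2, 6), (3, 3), (4, 3), (5, 5), (6, 1), (7, 3), (8, 4), (10, 3), (11, 4), (12, 3), (14, 6), (15, 5), (16, 3), (18, 4), (19, 6), (20, 3), (22, 1), (23, 6), (24, 6), (25, 5), (26, 6), (27, 2), (29, 2), (31, 1), (32, 6), (33, 1), (34, 5), (35, 2), (36, 6)],
  [(0, 6), (1, 5), (2, 4), (3, 2), (4, 1), (5, 4), (6, 5), (7, 5), (8, 2), (10, 2), (11, 6), (12, 5), (14, 4), (15, 4), (16, 5), (18, 5), (19, 2), (20, 5), (22, 4), (23, 3), (24, 3), (25, 6), (26, 3), (27, 1), (29, 4), (31, 2), (32, 5), (33, 3), (34, 1), (35, 6), (36, 4)],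
  [(0, 6), (1, 5), (2, 4), (3, 2), (4, 5), (5, 6), (6, 4), (7, 1), (8, 6), (10, 2), (11, 2), (12, 1), (14, 4), (15, 6), (16, 1), (18, 5), (19, 3), (20, 1), (22, 3), (23, 4), (24, 4), (25, 1), (26, 4), (27, 6), (29, 1), (31, 4), (32, 3), (33, 5), (34, 4), (35, 3), (36, 2)],
  [(0, 1), (1, 2), (2, 3), (3, 5), (4, 1), (5, 4), (6, 5), (7, 2), (8, 5), (10, 5), (11, 6), (12, 2), (14, 3), (15, 4), (16, 2), (18, 2), (19, 2), (20, 2), (22, 4), (23, 3), (24, 3), (25, 6), (26, 3), (27, 1), (29, 3), (31, 5), (32, 2), (33, 3), (34, 1), (35, 6), (36, 4)],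
  [(0, 6), (1, 5), (2, 4), (3, 2), (4, 2), (5, 1), (6, 3), (7, 1), (8, 6), (10, 2), (11, 5), (12, 1), (14, 4), (15, 1), (16, 1), (18, 5), (19, 4), (20, 1), (22, 4), (23, 3), (24, 3), (25, 6), (26, 3), (27, 1), (29, 1), (31, 4), (32, 3), (33, 2), (34, 3), (35, 4), (36, 5)],
  [(1, 4), (2, 6), (3, 5), (4, 4), (5, 3), (6, 4), (10, 4), (11, 4), (14, 1), (15, 4), (18, 5), (19, 4), (28, 2), (30, 5), (31, 4), (32, 4), (33, 3), (34, 6), (35, 6), (36, 3)],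
  [(4, 6), (5, 1), (6, 6), (11, 6), (15, 6), (19, 6), (22, 4), (23, 4), (24, 2), (25, 6), (26, 5), (27, 6), (33, 6), (34, 5), (35, 5), (36, 6)],
  [(1, 3), (2, 1), (3, 2), (4, 4), (5, 3), (6, 4), (10, 3), (11, 4), (14, 6), (15, 4), (18, 2), (19, 4), (28, 5), (30, 2), (31, 3), (32, 3), (33, 3), (34, 6), (35, 6), (36, 3)],
  [(1, 5), (2, 4), (3, 1), (4, 1), (5, 6), (6, 1), (10, 5), (11, 1), (14, 3), (15, 1), (18, 1), (19, 1), (22, 5), (23, 5), (24, 6), (25, 4), (26, 1), (27, 4), (28, 1), (30, 6), (31, 2), (32, 2), (33, 1), (34, 2), (35, 2), (36, 1)],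
  [(1, 5), (2, 4), (3, 1), (4, 6), (5, 1), (6, 6), (10, 5), (11, 6), (14, 3), (15, 6), (18, 1), (19, 6), (22, 2), (23, 2), (24, 1), (25, 3), (26, 6), (27, 3), (28, 1), (30, 6), (31, 2), (32, 2), (33, 6), (34, 5), (35, 5), (36, 6)],
  [(0, 1), (1, 6), (2, 1), (3, 6), (10, 1), (14, 1), (18, 1), (22, 3), (23, 4), (24, 3), (25, 4), (26, 3), (27, 3), (28, 2), (29, 5), (30, 2), (31, 5), (32, 2), (33, 6), (34, 1), (35, 6), (36, 1)],
  [(0, 3), (1, 4), (2, 3), (3, 4), (10, 3), (14, 3), (18, 3), (22, 3), (23, 4), (24, 3), (25, 4), (26, 3), (27, 3), (28, 5), (29, 2), (30, 5), (31, 2), (32, 5), (33, 3), (34, 4), (35, 3), (36, 4)],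
  [(0, 3), (1, 4), (2, 3), (3, 4), (10, 3), (14, 3), (18, 3), (22, 4), (23, 3), (24, 4), (25, 3), (26, 4), (27, 4), (28, 5), (29, 2), (30, 5), (31, 2), (32, 5), (33, 4), (34, 3), (35, 4), (36, 3)],
  [(0, 1), (1, 6), (2, 1), (3, 6), (10, 1), (14, 1), (18, 1), (22, 4), (23, 3), (24, 4), (25, 3), (26, 4), (27, 4), (28, 2), (29, 5), (30, 2), (31, 5), (32, 2), (33, 1), (34, 6), (35, 1), (36, 6)],
  [(37, 2), (38, 1), (39, 1), (40, 1), (41, 2), (42, 1), (43, 1), (44, 1)],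
  [(37, 5), (38, 5), (39, 1), (40, 5), (41, 5), (42, 1), (43, 6), (44, 6)],
  [(37, 1), (38, 1), (39, 3), (40, 6), (41, 6), (42, 4)],
  [(37, 5), (38, 5), (39, 6), (40, 5), (41, 5), (42, 6), (43, 1), (44, 1)],
  [(37, 2), (38, 1), (39, 6), (40, 1), (41, 2), (42, 6), (43, 6), (44, 6)],
  [(37, 1), (38, 1), (39, 4), (40, 6), (41, 6), (42, 3)],
  [(37, 1), (38, 6), (40, 1), (41, 6), (43, 3), (44, 4)],
  [(37, 1), (38, 6), (40, 1), (41, 6), (43, 4), (44, 3)]]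

def g7 : List (List (Nat × Nat)) := [
  [(0, 1)],
  [(11, 2)],
  [(16, 5)],
  [(21, 6)],
  [(4, 6)],
  [(12, 3)],
  [(17, 6)],
  [(7, 1)],
  [(13, 6)],
  [(9, 6)],
  [(23, 2)],
  [(1, 4)],
  [(5, 5)],
  [(8, 6)],
  [(30, 5)],
  [(24, 1)],
  [(2, 3)],
  [(6, 6)],
  [(36, 6)],
  [(31, 6)],
  [(25, 6)],
  [(3, 6)],
  [(22, 6)],
  [(10, 4)],
  [(15, 1)],
  [(20, 6)],
  [(29, 3)],
  [(35, 6)],
  [(28, 1)],
  [(26, 5)],
  [(14, 3)],
  [(19, 6)],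
  [(34, 6)],
  [(33, 6)],
  [(32, 6)],
  [(27, 6)],
  [(18, 6)],
  [(37, 1)],
  [(42, 6)],
  [(39, 6)],
  [(44, 6)],
  [(37, 1), (41, 6)],
  [(38, 6)],
  [(43, 6)],
  [(40, 6)]]

def gens : List (List (List (Nat × Nat))) := [g0, g1, g2, g3, g4, g5, g6, g7]

end Cfsg.Agent.ON45
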