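import Cfsg.Agent.ON45.Data
import Cfsg.Agent.ON45.Packed
import Cfsg.Agent.SporB.ON.Main
import Mathlib.LinearAlgebra.Matrix.SpecialLinearGroup
import Cfsg.Prelude.Def_Sporadic

/-!
The 45-dimensional projective representation of the O'Nan group over GF(7).
-/

set_option autoImplicit false
set_option maxRecDepth 100000

namespace Cfsg.Agent.ON45

open Cfsg.Agent.CosetEnum

instance : Fact (Nat.Prime 7) := ⟨by norm_num⟩

/-- The invertible matrices. -/
abbrev Amb : Type := GL (Fin 45) (ZMod 7)

/-- The image of the letter `l`. -/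
def mat (l : ℕ) : Matrix (Fin 45) (Fin 45) (ZMod 7) := sparse (gens.getD l [])

/-- The packed scalar matrix `c`. -/
def scCols (c : ℕ) : List ℕ := (idCols 45).map (c * ·)

/-- The word `W` evaluates to one of the scalars listed. -/
def scWord (cs : List ℕ) (W : List ℕ) : Bool :=
  W.all (fun l => Nat.blt l gens.length) &&
    cs.any (fun c => runWord (mask 45) gens W (idCols 45) == scCols c)

theorem gens_ok : gens.all (wellFormed 45) = true := by decide +kernel

theorem gen_len : gens.length = 8 := rfl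

theorem inv_ok : [[0, 1], [1, 0], [2, 2], [3, 3], [4, 4], [5, 5], [6, 6], [7, 7]].all (scWord [1]) = true := by
  decide +kernel

theorem rel_ok : CosetEnum.ON.relsAll.all (scWord [1, 2, 4]) = true := by decide +kernel

theorem ne_ok : scWord [1, 2, 4] [2] = false := by decide +kernel

theorem packs_sc {c : ℕ} (hc : c < 7) : Packs (scCols c) ((c : ZMod 7) • (1 : Matrix (Fin 45) (Fin 45) (ZMod 7))) := by
  intro j
  have h := packs_one (n := 45) j
  have hj : j.1 < (idCols 45).length := by simpa [idCols] using j.2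
  rw [scCols, List.getD_eq_getElem _ _ (by simpa using hj), List.getElem_map]
  rw [List.getD_eq_getElem _ _ hj] at h
  rw [h, ← pk_smul]
  refine pk_congr 45 _ _ fun i hi => ?_
  simp only [colFun, dif_pos hi, Matrix.smul_apply, Matrix.one_apply, smul_eq_mul]
  split
  · rw [mul_one, ZMod.val_natCast, ZMod.val_one, mul_one, Nat.mod_eq_of_lt hc]
  · simp

theorem prod_eq {cs W : List ℕ} (h : scWord cs W = true) (hcs : ∀ c ∈ cs, c < 7) :
    ∃ c ∈ cs, (W.map mat).prod = (c : ZMod 7) • (1 : Matrix (Fin 45) (Fin 45) (ZMod 7)) := by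
  simp only [scWord, Bool.and_eq_true, List.all_eq_true, List.any_eq_true, beq_iff_eq] at h
  obtain ⟨hl, c, hc, he⟩ := h
  have h1 := packs_runWord (n := 45) (by norm_num) (fun D hD => List.all_eq_true.mp gens_ok D hD) W
    (fun l hl' => Nat.le_of_ble_eq_true (hl l hl')) _ _ packs_one
  rw [he, Matrix.one_mul] at h1
  exact ⟨c, hc, packs_inj h1 (packs_sc (hcs c hc))⟩

theorem prod_one {a b : ℕ} (h : [a, b] ∈ [[0, 1], [1, 0], [2, 2], [3, 3], [4, 4], [5, 5], [6, 6], [7, 7]]) :
    mat a * mat b = 1 := by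
  obtain ⟨c, hc, he⟩ := prod_eq (List.all_eq_true.mp inv_ok _ h) (by simp)
  simp only [List.mem_singleton] at hc
  subst hc
  simpa using he

/-- The images of the generators. -/
def genUnit : Cfsg.Spor.ON.Gen → Amb
  | .g => ⟨mat 0, mat 1, prod_one (by decide), prod_one (by decide)⟩
  | .a => ⟨mat 2, mat 2, prod_one (by decide), prod_one (by decide)⟩
  | .b => ⟨mat 3, mat 3, prod_one (by decide), prod_one (by decide)⟩
  | .c => ⟨mat 4, mat 4, prod_one (by decide), prod_one (by decide)⟩
  | .d => ⟨mat 5, mat 5, prod_one (by decide), prod_one (by decide)⟩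
  | .e => ⟨mat 6, mat 6, prod_one (by decide), prod_one (by decide)⟩
  | .f => ⟨mat 7, mat 7, prod_one (by decide), prod_one (by decide)⟩

theorem coe_evalWord : ∀ W : List ℕ, (∀ l ∈ W, l < 8) →
    ((evalWord (ON.lets genUnit) W : Amb) : Matrix (Fin 45) (Fin 45) (ZMod 7)) = (W.map mat).prod
  | [], _ => rfl
  | l :: ls, h => by
    have hl := h l List.mem_cons_self
    rw [show evalWord (ON.lets genUnit) (l :: ls) =
      ON.lets genUnit l * evalWord (ON.lets genUnit) ls from rfl,
      Units.val_mul, coe_evalWord ls fun x hx => h x (List.mem_cons_of_mem _ hx),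
      List.map_cons, List.prod_cons]
    congr 1
    interval_cases l <;> rfl

/-- The scalar matrices. -/
def scalars : (ZMod 7)ˣ →* Amb :=
  Units.map (Matrix.scalar (Fin 45)).toMonoidHom

theorem scalars_injective : Function.Injective scalars := fun a b h => by
  have h' := congrArg (fun u : Amb => (u : Matrix (Fin 45) (Fin 45) (ZMod 7)) 0 0) h
  apply Units.ext
  simpa [scalars] using h'

/-- The scalar matrices of order dividing three. -/
def Z : Subgroup Amb := (powMonoidHom 3 : (ZMod 7)ˣ →* (ZMod 7)ˣ).ker.map scalars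

theorem mem_Z {c : (ZMod 7)ˣ} (hc : c ^ 3 = 1) : scalars c ∈ Z :=
  Subgroup.mem_map_of_mem _ (by simpa using hc)

instance : Z.Normal := by
  refine ⟨fun z hz g => ?_⟩
  obtain ⟨c, hc, rfl⟩ := hz
  have : g * scalars c = scalars c * g := by
    apply Units.ext
    simp only [Units.val_mul, scalars, Units.coe_map, RingHom.toMonoidHom_eq_coe, MonoidHom.coe_coe]
    exact ((Matrix.scalar_commute (c : ZMod 7) (fun r => Commute.all _ r) _).eq).symm
  rw [this, mul_inv_cancel_right]
  exact Subgroup.mem_map_of_mem _ hc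

theorem card_Z : Nat.card Z = 3 := by
  rw [Z, Subgroup.card_map_of_injective scalars_injective, Nat.card_eq_fintype_card]
  decide

theorem eval_mem {W : List ℕ} (hW : W ∈ CosetEnum.ON.relsAll) : evalWord (ON.lets genUnit) W ∈ Z := by
  have h := List.all_eq_true.mp rel_ok W hW
  obtain ⟨c, hc, he⟩ := prod_eq h (by decide)
  have hl : ∀ l ∈ W, l < 8 := by
    simp only [scWord, Bool.and_eq_true, List.all_eq_true] at h
    exact fun l hl => Nat.le_of_ble_eq_true (h.1 l hl)
  have key : ∀ u : (ZMod 7)ˣ, (u : ZMod 7) = (c : ZMod 7) → evalWord (ON.lets genUnit) W = scalars u := by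
    intro u hu
    apply Units.ext
    rw [coe_evalWord W hl, he]
    simp [scalars, hu, Matrix.smul_one_eq_diagonal]; rfl
  fin_cases hc
  · rw [key 1 (by simp), map_one]; exact one_mem Z
  · rw [key (ZMod.unitOfCoprime 2 (by norm_num)) (by simp)]; exact mem_Z (by decide)
  · rw [key (ZMod.unitOfCoprime 4 (by norm_num)) (by simp)]; exact mem_Z (by decide)

/-- The generators modulo the scalars. -/
def genQ (x : Cfsg.Spor.ON.Gen) : Amb ⧸ Z := QuotientGroup.mk' Z (genUnit x)

theorem eval_genQ : ∀ W : List ℕ, (∀ l ∈ W, l < 8) →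
    evalWord (ON.lets genQ) W = QuotientGroup.mk' Z (evalWord (ON.lets genUnit) W)
  | [], _ => (map_one _).symm
  | l :: ls, h => by
    have hl := h l List.mem_cons_self
    show ON.lets genQ l * evalWord (ON.lets genQ) ls = _
    rw [eval_genQ ls fun x hx => h x (List.mem_cons_of_mem _ hx),
      show evalWord (ON.lets genUnit) (l :: ls) =
        ON.lets genUnit l * evalWord (ON.lets genUnit) ls from rfl, map_mul]
    congr 1
    interval_cases l <;> rfl

/-- The projective representation. -/
noncomputable def rho : Cfsg.Spor.ON →* Amb ⧸ Z :=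
  PresentedGroup.toGroup (f := genQ) <| CosetEnum.ON.kills genQ fun W hW => by
    have hl : ∀ l ∈ W, l < 8 := by
      have h := List.all_eq_true.mp rel_ok W hW
      simp only [scWord, Bool.and_eq_true, List.all_eq_true] at h
      exact fun l hl => Nat.le_of_ble_eq_true (h.1 l hl)
    rw [eval_genQ W hl]
    exact (QuotientGroup.eq_one_iff _).mpr (eval_mem hW)

theorem a_not_mem : genUnit .a ∉ Z := by
  rintro ⟨c, hc, he⟩
  have hc' : (c : ZMod 7).val ∈ [1, 2, 4] := by
    have key : ∀ c : (ZMod 7)ˣ, c ^ 3 = 1 → (c : ZMod 7).val ∈ [1, 2, 4] := by decide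
    exact key c hc
  have hm : mat 2 = ((c : ZMod 7).val : ZMod 7) • (1 : Matrix (Fin 45) (Fin 45) (ZMod 7)) := by
    rw [ZMod.natCast_zmod_val, show mat 2 = ((genUnit .a : Amb) : Matrix _ _ _) from rfl, ← he]
    simp [scalars, Matrix.smul_one_eq_diagonal, Matrix.scalar_apply]
  have h1 := packs_runWord (n := 45) (by norm_num) (fun D hD => List.all_eq_true.mp gens_ok D hD)
    [2] (by decide) _ _ packs_one
  have hp : ([2].map fun l => sparse (n := 45) (gens.getD l [])).prod = mat 2 := by simp [mat]
  rw [hp, Matrix.one_mul, hm] at h1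
  have h2 := packs_sc (ZMod.val_lt (c : ZMod 7))
  have hC : runWord (mask 45) gens [2] (idCols 45) = scCols (c : ZMod 7).val := by
    refine List.ext_getElem (by simp [runWord, step, scCols, idCols]; rfl) fun j hj hj' => ?_
    have e := (h1 ⟨j, by simpa [scCols, idCols] using hj'⟩).trans
      (h2 ⟨j, by simpa [scCols, idCols] using hj'⟩).symm
    rwa [List.getD_eq_getElem _ _ hj, List.getD_eq_getElem _ _ hj'] at e
  have := ne_ok
  simp only [scWord, Bool.and_eq_false_iff, List.any_eq_false, beq_iff_eq] at this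
  rcases this with h | h
  · revert h; decide
  · exact h _ hc' hC

theorem rho_of (x : Cfsg.Spor.ON.Gen) : rho (PresentedGroup.of x) = genQ x :=
  PresentedGroup.toGroup.of _

theorem rho_injective : Function.Injective rho := by
  have : IsSimpleGroup Cfsg.Spor.ON := CosetEnum.ON.simple
  rw [← MonoidHom.ker_eq_bot_iff]
  rcases IsSimpleGroup.eq_bot_or_eq_top_of_normal rho.ker inferInstance with h | h
  · exact h
  · exfalso
    have h' : rho (PresentedGroup.of Cfsg.Spor.ON.Gen.a) = 1 :=
      MonoidHom.mem_ker.mp (h ▸ Subgroup.mem_top _)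
    rw [rho_of] at h'
    exact a_not_mem ((QuotientGroup.eq_one_iff _).mp h')

theorem center_eq_bot : Subgroup.center Cfsg.Spor.ON = ⊥ := by
  have : IsSimpleGroup Cfsg.Spor.ON := CosetEnum.ON.simple
  rcases IsSimpleGroup.eq_bot_or_eq_top_of_normal (Subgroup.center Cfsg.Spor.ON) inferInstance with h | h
  · exact h
  · exfalso
    letI : CommGroup Cfsg.Spor.ON := Group.commGroupOfCenterEqTop h
    have : (Nat.card Cfsg.Spor.ON).Prime := IsSimpleGroup.prime_card
    rw [show Nat.card Cfsg.Spor.ON = 460815505920 from CosetEnum.ON.card_eq] at this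
    exact absurd ((Nat.prime_dvd_prime_iff_eq Nat.prime_two this).mp (by norm_num)) (by norm_num)

/-- The determinant modulo the scalars. -/
noncomputable def detQ : Amb ⧸ Z →* (ZMod 7)ˣ :=
  QuotientGroup.lift Z Matrix.GeneralLinearGroup.det fun z hz => by
    obtain ⟨c, hc, rfl⟩ := hz
    rw [MonoidHom.mem_ker]
    have h3 : c ^ 3 = 1 := hc
    apply Units.ext
    have h45 : (c : ZMod 7) ^ 45 = 1 := by
      rw [show 45 = 3 * 15 from rfl, pow_mul, ← Units.val_pow_eq_pow_val, h3, Units.val_one, one_pow]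
    simpa [scalars, Matrix.scalar_apply] using h45

theorem det_rho (x : Cfsg.Spor.ON) : detQ (rho x) = 1 := by
  have : IsSimpleGroup Cfsg.Spor.ON := CosetEnum.ON.simple
  rcases IsSimpleGroup.eq_bot_or_eq_top_of_normal (detQ.comp rho).ker inferInstance with h | h
  · exfalso
    have hle := Nat.card_le_card_of_injective (detQ.comp rho) ((MonoidHom.ker_eq_bot_iff _).mp h)
    rw [show Nat.card Cfsg.Spor.ON = 460815505920 from CosetEnum.ON.card_eq,
      Nat.card_eq_fintype_card, ZMod.card_units] at hle
    norm_num at hle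
  · have hx : x ∈ (detQ.comp rho).ker := by rw [h]; exact Subgroup.mem_top x
    exact MonoidHom.mem_ker.mp hx

/-- The special linear matrices modulo the scalars. -/
noncomputable def proj : Matrix.SpecialLinearGroup (Fin 45) (ZMod 7) →* Amb ⧸ Z :=
  (QuotientGroup.mk' Z).comp Matrix.SpecialLinearGroup.toGL

/-- The triple cover. -/
noncomputable def H : Subgroup (Matrix.SpecialLinearGroup (Fin 45) (ZMod 7)) := rho.range.comap proj

theorem det_coe {n : Type} [Fintype n] [DecidableEq n] {R : Type} [CommRing R] (u : GL n R)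
    (hu : Matrix.GeneralLinearGroup.det u = 1) :
    ∃ s : Matrix.SpecialLinearGroup n R, Matrix.SpecialLinearGroup.toGL s = u :=
  ⟨⟨(u : Matrix n n R), by
    rw [← Matrix.GeneralLinearGroup.val_det_apply, hu, Units.val_one]⟩, Units.ext rfl⟩

theorem exists_lift (u : Amb) (hu : Matrix.GeneralLinearGroup.det u = 1) :
    ∃ s : Matrix.SpecialLinearGroup (Fin 45) (ZMod 7), Matrix.SpecialLinearGroup.toGL s = u :=
  det_coe u hu

/-- The quotient map of the cover. -/
noncomputable def psi : H →* Cfsg.Spor.ON :=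
  (MonoidHom.ofInjective rho_injective).symm.toMonoidHom.comp
    ((proj.comp H.subtype).codRestrict rho.range fun h => h.2)

theorem rho_psi (h : H) : rho (psi h) = proj h := by
  have := (MonoidHom.ofInjective rho_injective).apply_symm_apply
    (((proj.comp H.subtype).codRestrict rho.range fun h => h.2) h)
  exact congrArg Subtype.val this

theorem psi_surjective : Function.Surjective psi := by
  intro x
  obtain ⟨u, hu⟩ := QuotientGroup.mk'_surjective Z (rho x)
  obtain ⟨s, hs⟩ := exists_lift u (by
    have := det_rho x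
    rw [← hu] at this
    exact this)
  have hm : proj s = rho x := by rw [proj, MonoidHom.comp_apply, hs, hu]
  refine ⟨⟨s, ⟨x, hm.symm⟩⟩, rho_injective ?_⟩
  rw [rho_psi]
  exact hm

theorem psi_ker_iff (h : H) : h ∈ psi.ker ↔ Matrix.SpecialLinearGroup.toGL h.1 ∈ Z := by
  rw [MonoidHom.mem_ker, ← rho_injective.eq_iff, map_one, rho_psi]
  exact QuotientGroup.eq_one_iff _

theorem card_ker : Nat.card psi.ker = 3 := by
  rw [← card_Z]
  refine Nat.card_congr (Equiv.ofBijective
    (fun h : psi.ker => (⟨Matrix.SpecialLinearGroup.toGL h.1.1, (psi_ker_iff h.1).mp h.2⟩ : Z)) ⟨?_, ?_⟩)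
  · intro a b hab
    have e := congrArg (fun u : Amb => (u : Matrix (Fin 45) (Fin 45) (ZMod 7))) (Subtype.ext_iff.mp hab)
    exact Subtype.ext (Subtype.ext (Subtype.ext e))
  · rintro ⟨z, hz⟩
    have hq : QuotientGroup.mk' Z z = 1 := (QuotientGroup.eq_one_iff _).mpr hz
    obtain ⟨s, hs⟩ := exists_lift z (by
      have h1 : detQ (QuotientGroup.mk' Z z) = 1 := by rw [hq, map_one]
      exact h1)
    have hm : s ∈ H := ⟨1, by rw [map_one, proj, MonoidHom.comp_apply, hs, hq]⟩
    refine ⟨⟨⟨s, hm⟩, (psi_ker_iff ⟨s, hm⟩).mpr ?_⟩, Subtype.ext hs⟩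
    show Matrix.SpecialLinearGroup.toGL s ∈ Z
    rw [hs]; exact hz

theorem center_H : Subgroup.center H = psi.ker := by
  ext h
  constructor
  · intro hc
    have : psi h ∈ Subgroup.center Cfsg.Spor.ON := by
      rw [Subgroup.mem_center_iff] at hc ⊢
      intro y
      obtain ⟨k, rfl⟩ := psi_surjective y
      rw [← map_mul, ← map_mul, hc k]
    rwa [center_eq_bot, Subgroup.mem_bot] at this
  · intro hk
    obtain ⟨c, -, hc⟩ := (psi_ker_iff h).mp hk
    rw [Subgroup.mem_center_iff]
    intro k
    apply Subtype.ext; apply Subtype.ext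
    have e := congrArg (fun u : Amb => (u : Matrix (Fin 45) (Fin 45) (ZMod 7))) hc
    show (k.1 : Matrix (Fin 45) (Fin 45) (ZMod 7)) * h.1 = h.1 * k.1
    have e' : (h.1 : Matrix (Fin 45) (Fin 45) (ZMod 7)) = Matrix.scalar (Fin 45) (c : ZMod 7) := e.symm
    rw [e']
    exact ((Matrix.scalar_commute (c : ZMod 7) (fun r => Commute.all _ r) _).eq).symm

theorem exists_cover : ∃ H : Subgroup (Matrix.SpecialLinearGroup (Fin 45) (ZMod 7)),
    Nat.card (Subgroup.center H) = 3 ∧ Cfsg.IsON (H ⧸ Subgroup.center H) := by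
  let e : H ⧸ Subgroup.center H ≃* Cfsg.Spor.ON :=
    (QuotientGroup.quotientMulEquivOfEq center_H).trans
      (QuotientGroup.quotientKerEquivOfSurjective psi psi_surjective)
  refine ⟨H, by rw [center_H]; exact card_ker, ?_, ?_⟩
  · have : IsSimpleGroup Cfsg.Spor.ON := CosetEnum.ON.simple
    have : Nontrivial (H ⧸ Subgroup.center H) := e.toEquiv.nontrivial
    exact IsSimpleGroup.isSimpleGroup_of_surjective e.symm.toMonoidHom e.symm.surjective
  · rw [Nat.card_congr e.toEquiv]
    exact CosetEnum.ON.card_eq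

end Cfsg.Agent.ON45
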